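import Cfsg.Agent.Lib.FT.PF7

/-! Project SEG: the rank of a permutation group with a regular abelian TI-subgroup whose
normalizer is a Frobenius group of odd order. -/

set_option autoImplicit false

namespace CfsgLib.SEG

open Subgroup Cfsg CfsgLib.FT
open scoped ComplexConjugate

theorem rank_arith {ι : Type*} [DecidableEq ι] {S : Finset ι} {τ : ι → ℕ} {o : ι} {m v : ℕ}
    (ho : o ∈ S) (h1 : τ o = 1) (hm : ∑ i ∈ S, τ i = m) (hodd : Odd m)
    (h2 : ∀ i ∈ S, i ≠ o → v ∣ τ i ∧ τ i ≠ 0 ∧ τ i * m ≤ m * v + τ i ^ 2)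
    (h3 : ∀ i ∈ S, i ≠ o → τ i = v → ∃ j ∈ S, j ≠ o ∧ j ≠ i ∧ τ j = v) :
    S.card ≤ 2 ∨ v * S.card + 1 = m + v := by
  by_cases h : ∀ i ∈ S, i ≠ o → τ i = v
  · right
    rw [← hm, ← Finset.add_sum_erase _ _ ho, h1, ← Finset.card_erase_add_one ho,
      Finset.sum_const_nat fun i hi => h i (Finset.mem_of_mem_erase hi) (Finset.ne_of_mem_erase hi)]
    ring
  left
  have key : ∀ i ∈ S, i ≠ o → τ i ≠ v → 2 * v ≤ τ i ∧ m < 2 * τ i := fun i hi a b => by
    obtain ⟨⟨n, hn⟩, c, d⟩ := h2 i hi a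
    have e : 2 * v ≤ τ i := by
      rw [hn, mul_comm]
      refine Nat.mul_le_mul_left _ ?_
      rcases n with _ | _ | n
      · simp [hn] at c
      · simp [hn] at b
      · omega
    refine ⟨e, ?_⟩
    by_contra f
    obtain ⟨k, hk⟩ := hodd
    obtain ⟨s, hs⟩ : ∃ s, k = τ i + s := ⟨k - τ i, by omega⟩
    subst hk hs
    nlinarith [Nat.pos_of_ne_zero c]
  push Not at h
  obtain ⟨i, hi, a, b⟩ := h
  obtain ⟨c, d⟩ := key i hi a b
  refine (Finset.card_le_card (t := {o, i}) fun j hj => ?_).trans Finset.card_le_two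
  by_contra e
  simp only [Finset.mem_insert, Finset.mem_singleton, not_or] at e
  have h4 : τ j = v := by
    by_contra f
    have := (key j hj e.1 f).2
    have h5 := Finset.sum_le_sum_of_subset (f := τ) (s := {i, j}) (t := S) (by
      simp [Finset.insert_subset_iff, hi, hj])
    rw [Finset.sum_pair (Ne.symm e.2)] at h5
    omega
  obtain ⟨k, hk, k1, k2, k3⟩ := h3 j hj e.1 h4
  have k4 : k ≠ i := fun f => b (f ▸ k3)
  have h5 := Finset.sum_le_sum_of_subset (f := τ) (s := {o, i, j, k}) (t := S) (by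
    simp [Finset.insert_subset_iff, ho, hi, hj, hk])
  rw [Finset.sum_insert (by simp [a.symm, Ne.symm e.1, k1.symm]),
    Finset.sum_insert (by simp [Ne.symm e.2, k4.symm]), Finset.sum_pair k2.symm, hm, h1, h4,
    k3] at h5
  obtain ⟨s, rfl⟩ := Nat.exists_eq_add_of_le h5
  nlinarith [(h2 i hi a).2.2]

variable {G : Type*} [Group G] [Fintype G] {J D K C : Subgroup G}

theorem dvd_of_frob (hF : FrobKer D K) (hKD : K ≤ D) (hK : IsMulCommutative K) {φ : G → ℂ}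
    (h : IsChar D φ) : cfdot K φ (cf1 K) = 0 → ∃ n : ℕ, φ 1 = (K.relIndex D * n : ℕ) := by
  refine h.induction (P := fun φ => cfdot K φ (cf1 K) = 0 → ∃ n : ℕ, φ 1 = (K.relIndex D * n : ℕ))
    (fun _ => ⟨0, by simp⟩) fun χ ψ hχ hψ ih h0 => ?_
  obtain ⟨a, ha⟩ := (hχ.isChar.cfRes hKD).cfdot_nat isChar_cf1
  obtain ⟨b, hb⟩ := (hψ.cfRes hKD).cfdot_nat isChar_cf1
  rw [cfdot_cfRes_left] at ha hb
  rw [cfdot_add_left, ha, hb, ← Nat.cast_add, Nat.cast_eq_zero, Nat.add_eq_zero_iff] at h0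
  obtain ⟨n, hn⟩ := ih (by rw [hb, h0.2, Nat.cast_zero])
  obtain ⟨θ, hθ, -, e⟩ := hF.exists_cfInd hχ fun hk => hχ.one_ne_zero (by
    rw [cfdot_cf1_right, Finset.sum_congr rfl fun x hx => cfker_apply (hk (mem_elems.1 hx)),
      sum_elems_const, nsmul_eq_mul, inv_mul_cancel_left₀ (card_ne_zero K)] at ha
    rw [ha, h0.1, Nat.cast_zero])
  refine ⟨n + 1, ?_⟩
  rw [Pi.add_apply, hn, e, cfInd_one hKD, hθ.isLin_of_isMulCommutative.2]
  push_cast; ring

theorem ti_bound (hKD : K ≤ D) (hTI : NormedTI (sharp K) J D) {χ : G → ℂ} (hχ : IsIrr J χ) :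
    cfnorm K χ * Nat.card K ≤ Nat.card D + ‖χ 1‖ ^ 2 := by
  classical
  have hA : sharp K ⊆ D := sharp_subset.trans hKD
  have h1 : cfInd1 (sharp K) * cfRes D χ ∈ CFon D (sharp K) :=
    CFon_mul (cfInd1_mem_CFon hA hTI.conj_mem) (cfRes_mem_CF hTI.le hχ.mem_CF)
  have h2 : ∀ x ∈ sharp K, (cfInd1 (sharp K) * cfRes D χ) x = χ x := fun x hx => by
    rw [Pi.mul_apply, cfInd1_apply hx, cfRes_apply (hA hx), one_mul]
  have h3 := norm_cfdot_sq_le (L := J) (φ := cfInd D J (cfInd1 (sharp K) * cfRes D χ)) (ψ := χ)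
  rw [cfnorm_eq_of_cfdot (normedTI_isometry hTI h1 h1), hχ.cfnorm, mul_one,
    cfdot_cfInd_left hTI.le hχ.mem_CF, ← cfdot_congr_of_supp (fun x => CFon_zero h1) h2,
    cfdot_self, Complex.norm_real, Real.norm_of_nonneg cfnorm_nonneg] at h3
  have h4 : cfnorm D (cfInd1 (sharp K) * cfRes D χ) ≤ 1 := by nlinarith
  rw [cfnorm_eq_sum_of_supp hA fun x _ => CFon_zero h1, inv_mul_le_one₀ (card_pos_real D),
    Finset.sum_congr rfl fun x hx => by rw [h2 x (mem_elems.1 hx)]] at h4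
  rw [cfnorm_eq, mul_comm, mul_inv_cancel_left₀ (card_pos_real K).ne',
    ← Finset.sum_erase_add _ _ (mem_elems.2 K.one_mem)]
  refine add_le_add_left (le_of_eq_of_le (Finset.sum_congr ?_ fun _ _ => rfl) h4) _
  ext x
  simp [mem_sharp, and_comm]

theorem rank_cases (hCJ : C ≤ J) (hF : FrobKer D K) (hKD : K ≤ D) (hK : IsMulCommutative K)
    (ho : Odd (Nat.card D)) (hTI : NormedTI (sharp K) J D)
    (hmul : ∀ x ∈ J, ∃ c ∈ C, ∃ k ∈ K, x = c * k) (hCK : C ⊓ K = ⊥) :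
    ∃ r : ℕ, cfdot J (cfInd C J (cf1 C)) (cfInd C J (cf1 C)) = r ∧
      (r ≤ 2 ∨ K.relIndex D * r + 1 = Nat.card K + K.relIndex D) := by
  classical
  have hKJ := hKD.trans hTI.le
  set κ := cfInd C J (cf1 C) with hκ
  have hc : IsChar J κ := isChar_cf1.cfInd hCJ
  have hθ : ∀ θ : Irr K, θ 1 = 1 := fun θ => θ.irr.isLin_of_isMulCommutative.2
  choose b hb using fun χ : Irr J => hc.cfdot_nat χ.isChar
  choose a ha using fun (χ : Irr J) (θ : Irr K) => (χ.isChar.cfRes hKJ).cfdot_nat θ.isChar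
  have h1 : ∀ θ, ∑ χ, b χ * a χ θ = 1 := fun θ => by
    have e : cfdot K κ θ = 1 := by
      rw [← cfdot_cfRes_left, cfRes_cfInd_of_mul hCJ hKJ hmul cf1_mem_CF, hCK,
        cfdot_cfInd_left bot_le θ.mem_CF, cfdot_congr (φ' := cf1 ⊥) (ψ' := cf1 ⊥)
          (fun x hx => by rw [mem_bot.1 hx, cf1_one, cf1_one])
          (fun x hx => by rw [mem_bot.1 hx, cf1_one, hθ]), cfdot_cf1]
    rw [cfun_sum_cfdot hc.mem_CF, cfdot_sum_left] at e
    simp only [cfdot_smul_left, hb, ← cfdot_cfRes_left (φ := (_ : Irr J)), ha] at e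
    exact_mod_cast e
  have h2 : ∀ χ θ, b χ * a χ θ ≤ 1 := fun χ θ =>
    h1 θ ▸ Finset.single_le_sum (f := fun χ => b χ * a χ θ) (fun _ _ => Nat.zero_le _)
      (Finset.mem_univ χ)
  have h3 : ∀ χ : Irr J, χ 1 = (∑ θ, a χ θ : ℕ) := fun χ => by
    simpa [Finset.sum_apply, ha, hθ] using congrFun (cfun_sum_cfdot (cfRes_mem_CF hKJ χ.mem_CF)) 1
  have h4 : ∀ χ : Irr J, ∑ θ, a χ θ ≠ 0 := fun χ e =>
    χ.irr.one_ne_zero (by rw [h3, e, Nat.cast_zero])
  have h5 : ∀ χ, b χ ≠ 0 → b χ = 1 := fun χ e => by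
    obtain ⟨θ, -, hθ⟩ := Finset.exists_ne_zero_of_sum_ne_zero (h4 χ)
    have := h2 χ θ
    exact le_antisymm ((Nat.le_mul_of_pos_right _ (Nat.pos_of_ne_zero hθ)).trans this)
      (Nat.pos_of_ne_zero e)
  have h6 : ∀ χ, b χ ≠ 0 → cfdot K χ χ = (∑ θ, a χ θ : ℕ) := fun χ e => by
    rw [← cfdot_cfRes_left, ← cfdot_cfRes_right, cfdot_eq_sum_irr (cfRes_mem_CF hKJ χ.mem_CF),
      Nat.cast_sum]
    refine Finset.sum_congr rfl fun θ _ => ?_
    have := h2 χ θ
    rw [h5 χ e, one_mul] at this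
    rcases Nat.le_one_iff_eq_zero_or_eq_one.1 this with f | f <;> simp [ha, f]
  have h7 : b 1 = 1 := by
    have := hb 1
    rw [hκ, cfdot_cfInd_cfRes hCJ (Irr.mem_CF 1), Irr.coe_one, cfRes_cf1 hCJ, cfdot_cf1] at this
    exact_mod_cast this.symm
  have h8 : ∀ χ, b χ ≠ 0 → χ ≠ 1 → cfdot K χ (cf1 K) = 0 := fun χ e f => by
    have e1 := ha 1 1
    rw [Irr.coe_one, Irr.coe_one, cfRes_cf1 hKJ, cfdot_cf1] at e1
    have e2 := Finset.sum_le_sum_of_subset (f := fun χ => b χ * a χ 1) (Finset.subset_univ {1, χ})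
    rw [Finset.sum_pair f.symm, h1, h7, h5 χ e, show a 1 1 = 1 by exact_mod_cast e1.symm] at e2
    rw [← cfdot_cfRes_left, ← Irr.coe_one, ha, show a χ 1 = 0 by omega, Nat.cast_zero]
  have h9 : Nat.card D = Nat.card K * K.relIndex D := (card_mul_relIndex hKD).symm
  refine ⟨(Finset.univ.filter fun χ => b χ ≠ 0).card, ?_, rank_arith (o := 1)
    (τ := fun χ => ∑ θ, a χ θ) (by simp [h7]) ?_ ?_ (ho.of_dvd_nat (card_dvd_of_le hKD))
    (fun χ hχ e => ?_) fun χ hχ e f => ?_⟩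
  · rw [cfdot_eq_sum_irr hc.mem_CF, Finset.card_filter, Nat.cast_sum]
    refine Finset.sum_congr rfl fun χ _ => ?_
    by_cases e : b χ = 0
    · simp [hb, e]
    · simp [hb, h5 χ e]
  · have := h3 1
    rw [Irr.coe_one, cf1_one] at this
    exact_mod_cast this.symm
  · have e1 := sum_irr_one_sq' (L := K)
    simp only [hθ, one_pow] at e1
    have e2 : ∑ θ : Irr K, ∑ χ, b χ * a χ θ = Nat.card K := by
      simp only [h1]; exact_mod_cast e1
    rw [← e2, Finset.sum_filter, Finset.sum_comm]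
    refine Finset.sum_congr rfl fun χ _ => ?_
    by_cases e : b χ = 0
    · simp [e]
    · simp [h5 χ e]
  · replace hχ := (Finset.mem_filter.1 hχ).2
    obtain ⟨n, hn⟩ := dvd_of_frob hF hKD hK (χ.isChar.cfRes hTI.le) (by
      rw [← cfdot_cfRes_left, cfRes_cfRes hKD, cfdot_cfRes_left, h8 χ hχ e])
    rw [cfRes_one, h3] at hn
    refine ⟨⟨n, by exact_mod_cast hn⟩, h4 χ, ?_⟩
    have := ti_bound hKD hTI χ.irr
    rw [cfnorm_eq_of_cfdot_eq (r := (∑ θ, a χ θ : ℕ)) (by rw [h6 χ hχ]; rfl), h3,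
      Complex.norm_natCast, h9] at this
    exact_mod_cast this
  · replace hχ := (Finset.mem_filter.1 hχ).2
    refine ⟨χ.conj, Finset.mem_filter.2 ⟨Finset.mem_univ _, fun e1 => hχ ?_⟩,
      fun e1 => e (by rw [← χ.conj_conj, e1]; exact Irr.aut_one _), fun e1 => ?_, ?_⟩
    · have e2 : cfdot J κ (cfConjC χ) = b χ.conj := hb χ.conj
      have e3 : cfConjC κ = κ := (cfInd_cfAut _).trans (congrArg _ (cfAut_cf1 _))
      rw [e1, cfdot_cfConjC_right, e3, hb] at e2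
      simpa using e2
    · have e2 : cfConjC (cfRes K χ) = cfRes K χ :=
        (cfAut_cfRes _).trans (congrArg _ (congrArg Subtype.val e1))
      have e3 := (χ.isChar.cfRes hKJ).mem_ZIrr
      obtain ⟨n, hn⟩ := cfdot_real_vchar_even (ho.of_dvd_nat (card_dvd_of_le hKD)) e3 e2 e3 e2
      rw [cfdot_cfRes_left, cfdot_cfRes_right, cfdot_cfRes_left, h6 χ hχ, h8 χ hχ e, zero_mul,
        zero_add, f] at hn
      obtain ⟨k, hk⟩ := ho.of_dvd_nat (h9 ▸ dvd_mul_left _ _ : K.relIndex D ∣ Nat.card D)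
      have : (K.relIndex D : ℤ) = 2 * n := by exact_mod_cast hn
      omega
    · have : conj (χ 1) = _ := h3 χ.conj
      rw [χ.isChar.conj_one, h3, f] at this
      exact_mod_cast this.symm

theorem rank_formula {u : G} {r : ℕ} (h : cfdot J (cfInd (J ⊓ centralizer {u}) J (cf1 (J ⊓
    centralizer {u}))) (cfInd (J ⊓ centralizer {u}) J (cf1 (J ⊓ centralizer {u}))) = r) :
    r * Nat.card ↥(J ⊓ centralizer {u}) ^ 2 =
      ∑ x ∈ elems (J : Set G), Nat.card ↥(J ⊓ centralizer {u} ⊓ centralizer {x⁻¹ * u * x}) := by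
  classical
  set C := J ⊓ centralizer {u}
  rw [cfdot_cfInd_right inf_le_left cfInd_mem_CF, cfdot_cf1_right,
    Finset.sum_congr rfl fun c hc => cfInd_apply (mem_elems.1 hc).1, ← Finset.mul_sum,
    Finset.sum_comm, ← mul_assoc, ← mul_inv, ← sq,
    inv_mul_eq_iff_eq_mul₀ (pow_ne_zero 2 (card_ne_zero C))] at h
  refine Nat.cast_injective (R := ℂ) ?_
  push_cast
  rw [mul_comm, ← h]
  refine Finset.sum_congr rfl fun x hx => ?_
  rw [cfRes_cf1 le_rfl, ← card_elems, Finset.card_eq_sum_ones, Nat.cast_sum,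
    ← Finset.sum_subset (s₁ := elems ((C ⊓ centralizer {x⁻¹ * u * x} : Subgroup G) : Set G))
      (s₂ := elems (C : Set G)) (f := fun c => cf1 C (x * c * x⁻¹)) (fun c hc => mem_elems.2 (mem_elems.1 hc).1) fun c hc hc' => cf1_apply_of_notMem fun e =>
        hc' (mem_elems.2 ⟨mem_elems.1 hc, mem_centralizer_singleton_iff.2 ?_⟩)]
  · refine Finset.sum_congr rfl fun c hc => ?_
    obtain ⟨h1, h2⟩ := mem_elems.1 hc
    rw [Nat.cast_one, cf1_apply (mem_inf.2 ⟨conj_mem_of_mem_normalizer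
      (le_normalizer (mem_elems.1 hx)) h1.1, mem_centralizer_singleton_iff.2 ?_⟩)]
    calc x * c * x⁻¹ * u = x * (c * (x⁻¹ * u * x)) * x⁻¹ := by group
      _ = _ := by rw [mem_centralizer_singleton_iff.1 h2]; group
  · calc c * (x⁻¹ * u * x) = x⁻¹ * (x * c * x⁻¹ * u) * x := by group
      _ = _ := by rw [mem_centralizer_singleton_iff.1 e.2]; group

theorem rank_bounds {u : G} {r m v : ℕ} (h : r * Nat.card ↥(J ⊓ centralizer {u}) ^ 2 =
      ∑ x ∈ elems (J : Set G), Nat.card ↥(J ⊓ centralizer {u} ⊓ centralizer {x⁻¹ * u * x}))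
    (hm : (centralizer {u}).relIndex J = m)
    (h1 : ∀ x ∈ J, x ∉ centralizer {u} → v ≤ (centralizer {x⁻¹ * u * x}).relIndex
      (J ⊓ centralizer {u}) ∧ (centralizer {x⁻¹ * u * x}).relIndex (J ⊓ centralizer {u}) + 1 < m)
    (h2 : ∃ x ∈ J, x ∉ centralizer {u} ∧
      v < (centralizer {x⁻¹ * u * x}).relIndex (J ⊓ centralizer {u})) :
    2 < r ∧ v * r + 1 < m + v := by
  classical
  set C := J ⊓ centralizer {u}
  have hs : elems (C : Set G) ⊆ elems (J : Set G) := fun c hc => mem_elems.2 (mem_elems.1 hc).1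
  have hmem : ∀ x, x ∈ elems (J : Set G) \ elems (C : Set G) ↔ x ∈ J ∧ x ∉ centralizer {u} :=
    fun x => by simp only [Finset.mem_sdiff, mem_elems, SetLike.mem_coe, C, mem_inf]; tauto
  have hc : ∀ w : G, Nat.card ↥(C ⊓ centralizer {w}) * (centralizer {w}).relIndex C = Nat.card C :=
    fun w => by rw [← inf_relIndex_left, card_mul_relIndex inf_le_left]
  have h3 := Finset.card_sdiff_add_card_eq_card hs
  rw [card_elems, card_elems, ← card_mul_relIndex (inf_le_left : C ≤ J), inf_relIndex_left,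
    hm] at h3
  rw [← Finset.sum_sdiff hs, Finset.sum_const_nat (m := Nat.card C) (s := elems (C : Set G))
    fun c hc => by
      rw [mul_assoc, ← mem_centralizer_singleton_iff.1 (mem_elems.1 hc).2, inv_mul_cancel_left,
        inf_eq_left.2 inf_le_right], card_elems] at h
  obtain ⟨y, hy, hy1, hy2⟩ := h2
  have hp : 0 < Nat.card C := Nat.card_pos
  have h4 := Finset.sum_lt_sum_of_nonempty (s := elems (J : Set G) \ elems (C : Set G))
    (f := fun _ => Nat.card C) (g := fun x => Nat.card ↥(C ⊓ centralizer {x⁻¹ * u * x}) * (m - 1))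
    ⟨y, (hmem y).2 ⟨hy, hy1⟩⟩ fun x hx => by
      have := (h1 x ((hmem x).1 hx).1 ((hmem x).1 hx).2).2
      rw [← hc (x⁻¹ * u * x)]
      exact Nat.mul_lt_mul_of_pos_left (by omega) Nat.card_pos
  have h5 := Finset.sum_lt_sum (s := elems (J : Set G) \ elems (C : Set G))
    (g := fun _ => Nat.card C) (f := fun x => Nat.card ↥(C ⊓ centralizer {x⁻¹ * u * x}) * v)
    (fun x hx => by
      rw [← hc (x⁻¹ * u * x)]
      exact Nat.mul_le_mul_left _ (h1 x ((hmem x).1 hx).1 ((hmem x).1 hx).2).1)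
    ⟨y, (hmem y).2 ⟨hy, hy1⟩, by
      rw [← hc (y⁻¹ * u * y)]; exact Nat.mul_lt_mul_of_pos_left hy2 Nat.card_pos⟩
  rw [← Finset.sum_mul, Finset.sum_const, smul_eq_mul] at h4 h5
  obtain ⟨n, rfl⟩ : ∃ n, m = n + 1 := ⟨m - 1, by have := (h1 y hy hy1).2; omega⟩
  generalize ∑ x ∈ elems (J : Set G) \ elems (C : Set G),
    Nat.card ↥(C ⊓ centralizer {x⁻¹ * u * x}) = s at h h4 h5
  generalize (elems (J : Set G) \ elems (C : Set G)).card = a at h3 h4 h5
  generalize Nat.card C = c at *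
  obtain rfl : a = c * n := by nlinarith
  rw [Nat.add_sub_cancel, mul_right_comm] at h4
  have h6 := lt_of_mul_lt_mul_right h4 (Nat.zero_le _)
  refine ⟨lt_of_mul_lt_mul_right (a := c ^ 2) (by nlinarith) (Nat.zero_le _), ?_⟩
  have : v * r * c ^ 2 < (n + v) * c ^ 2 := by nlinarith
  have := lt_of_mul_lt_mul_right this (Nat.zero_le _)
  omega

end CfsgLib.SEG
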