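import Cfsg.Agent.Lib.SEG.Frob
import Cfsg.Agent.Lib.SEG.Rank
import Cfsg.Agent.Lib.Suz.Main

/-! Project SEG: the Bender–Suzuki theorem for groups with abelian Sylow `2`-subgroups. -/

set_option autoImplicit false

namespace CfsgLib.SEG

open Subgroup MulAction Cfsg CfsgLib.Cop CfsgLib.H1 CfsgLib.SE

universe u

variable {G Ω : Type*} [Group G] [MulAction G Ω]

theorem card_le_relIndex [Finite G] {A C B : Subgroup G} (h : A ≤ C) (h1 : A ⊓ B = ⊥) :
    Nat.card A ≤ B.relIndex C := by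
  rw [← SE.card_inf_mul_relIndex B A, h1, card_bot, one_mul]
  exact relIndex_le_of_le_right h FiniteIndex.index_ne_zero

namespace Cz

variable [Finite G] {α β : Ω} {p : ℕ} {z t : G} {K : Subgroup G} (c : Cz α β p z t K)
include c

theorem relIndex_cent {u : G} (hu : IsInv u) (h : u • α = α) {A : Subgroup G} (h1 : K ≤ A)
    (h2 : A ≤ stabilizer G α) : (centralizer {u}).relIndex A = Nat.card K := by
  refine le_antisymm ?_ (card_le_relIndex h1 (c.inf_cent hu h))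
  rw [c.card_K, ← c.C.S.relIndex_cent_stab hu h]
  exact relIndex_le_of_le_right h2 FiniteIndex.index_ne_zero

theorem false : False := by
  have := Fintype.ofFinite G
  obtain ⟨u, w, hu, hw, h1, h2, h3⟩ := c.C.exists_not_comm α
  obtain ⟨w', hw', h4, h5⟩ := c.C.S.exists_comm c.C.hr hu
  have h6 := c.C.S.fix_of_comm hu h1 h5.symm
  have hKJ := c.le.trans inf_le_left
  have huJ := mem_Jg hu h1
  have hzK : z ∉ K := fun e => c.z_ne_one
    (mem_bot.1 (c.fz ▸ ⟨e, mem_centralizer_singleton_iff.2 rfl⟩))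
  obtain ⟨r, hr, h7⟩ := rank_cases (J := Jg G α) (C := Jg G α ⊓ centralizer {u}) inf_le_left
    ⟨_, FT.frobIn_of_cent (lt_of_le_of_ne c.le fun e => hzK (e ▸ c.zD)) (inf_le_right.trans c.nrm)
      c.K_ne_bot (fun k hk e x hx => by
        by_contra a
        exact e (mem_bot.1 (c.frob hx.1 a ▸ ⟨hk, mem_centralizer_singleton_iff.2
          (mem_centralizer_singleton_iff.1 hx.2).symm⟩)))
      (E := D1 G α β ⊓ centralizer {t}) ⟨c.le, inf_le_left, eq_bot_iff.2
        ((inf_le_inf_left _ inf_le_right).trans (c.inv.inf_cent c.oddK).le), fun d hd => by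
          obtain ⟨v, hv, k, hk, e⟩ := c.dec1 (inv_mem hd)
          exact ⟨k⁻¹, inv_mem hk, v⁻¹, inv_mem hv, by rw [← mul_inv_rev, ← e, inv_inv]⟩⟩⟩
    c.le c.inv.isMulCommutative (odd_of_le c.oddD inf_le_right)
    ⟨by
      obtain ⟨⟨k, hk⟩, e⟩ := ne_bot_iff_exists_ne_one.1 c.K_ne_bot
      exact ⟨k, hk, fun a => e (Subtype.ext a)⟩, inf_le_left,
      FT.sharp_conj (inf_le_right.trans c.nrm), fun g hg a ha e => ⟨hg, Jg_le α hg,
        c.eq_of_fix e.1 e.2 (smul_ne_of_fix (Jg_le α hg) c.ne.symm)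
          (conj_smul_eq (c.leD ha.1).2)⟩⟩
    (fun x hx => by
      obtain ⟨k, hk, e⟩ := c.reg hu h1 (hu.conj x⁻¹) (conj_fix (Jg_le α (inv_mem hx)) h1)
      refine ⟨x * k, ⟨mul_mem hx (hKJ hk), mem_centralizer_singleton_iff.2 ?_⟩, k⁻¹, inv_mem hk,
        by group⟩
      rw [mul_assoc, mul_inv_eq_iff_eq_mul.1 e]; group)
    (eq_bot_iff.2 fun x hx => (c.inf_cent hu h1).le ⟨hx.2, hx.1.2⟩)
  have h8 : Nat.card ↥(D1 G α β ⊓ centralizer {u}) = K.relIndex (D1 G α β) := by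
    have := SE.card_inf_mul_relIndex (centralizer {u}) (D1 G α β)
    rw [c.relIndex_cent hu h1 c.le (inf_le_left.trans (Jg_le α)), ← card_mul_relIndex c.le,
      mul_comm] at this
    exact Nat.eq_of_mul_eq_mul_left Nat.card_pos this
  have h9 : ∀ s, IsInv s → s • α = α → s ≠ u →
      D1 G α β ⊓ centralizer {u} ⊓ centralizer {s} = ⊥ := fun s hs a b => eq_bot_iff.2 fun y hy => by
    obtain ⟨k, hk, rfl⟩ := c.reg hu h1 hs a
    by_cases e : y ∈ K
    · exact (c.inf_cent hu h1).le ⟨e, hy.1.2⟩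
    have : k = 1 := mem_bot.1 ((c.frob hy.1.1 e).le ⟨hk, mem_centralizer_singleton_iff.2
      (c.comm_of_conj_cent hk hy.1.1.2 hu h1 (mem_centralizer_singleton_iff.1 hy.1.2)
        (mem_centralizer_singleton_iff.1 hy.2))⟩)
    simp [this] at b
  have h10 : D1 G α β ⊓ centralizer {u} ≤ Jg G α ⊓ centralizer {u} :=
    inf_le_inf_right _ inf_le_left
  have h11 := rank_bounds (rank_formula hr) (c.relIndex_cent hu h1 hKJ (Jg_le α))
    (v := K.relIndex (D1 G α β)) (fun x hx e => ?_) ?_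
  · omega
  · have a1 : IsInv (x⁻¹ * u * x) := by simpa using hu.conj x⁻¹
    have a2 : (x⁻¹ * u * x) • α = α := by simpa using conj_fix (Jg_le α (inv_mem hx)) h1
    have a3 : x⁻¹ * u * x ≠ u := fun a => e (mem_centralizer_singleton_iff.2 (by
      rw [mul_assoc, inv_mul_eq_iff_eq_mul] at a; exact a.symm))
    refine ⟨h8 ▸ card_le_relIndex h10 (h9 _ a1 a2 a3), ?_⟩
    generalize x⁻¹ * u * x = s at a1 a2 a3
    obtain ⟨s', b1, b2, b3, b4⟩ : ∃ s', IsInv s' ∧ s' • α = α ∧ s' ≠ u ∧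
        (u * s = s * u ↔ u * s' ≠ s' * u) := by
      by_cases b : u * s = s * u
      · exact ⟨w, hw, h2, fun a => h3 (by rw [a]), by simp [b, h3]⟩
      · exact ⟨w', hw', h6, h4.symm, by simp [b, h5]⟩
    have b5 : ∀ g ∈ Jg G α ⊓ centralizer {u}, g * s * g⁻¹ ≠ u ∧ g * s * g⁻¹ ≠ s' := fun g hg => by
      have b6 := mul_inv_eq_iff_eq_mul.2 (mem_centralizer_singleton_iff.1 hg.2)
      refine ⟨fun a => a3 (by simpa using a.trans b6.symm), ?_⟩
      rintro rfl
      have b7 : u * s = s * u ↔ u * (g * s * g⁻¹) = g * s * g⁻¹ * u := by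
        conv_rhs => rw [← b6, conj_mul, conj_mul, mul_left_inj, mul_right_inj]
      tauto
    rw [← Frob.ncard_conj_subgroup, c.card_K, nJ, ← Set.ncard_insert_of_notMem (a := u) (by
      rintro ⟨g, hg, a⟩; exact (b5 g hg).1 a)]
    refine Set.ncard_lt_ncard ⟨?_, fun a => ?_⟩
    · rintro _ (rfl | ⟨g, hg, rfl⟩)
      exacts [⟨hu, h1⟩, ⟨a1.conj g, conj_fix (Jg_le α hg.1) a2⟩]
    · rcases a ⟨b1, b2⟩ with a | ⟨g, hg, a⟩
      exacts [b3 a, (b5 g hg).2 a]
  · obtain ⟨k, hk, rfl⟩ := c.reg hu h1 hw h2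
    have a1 := mem_centralizer_singleton_iff.2 (rfl : u * u = u * u)
    have a2 := odd_of_le c.oddD (inf_le_left.trans inf_le_right : D1 G α β ⊓ centralizer {u} ≤ _)
    refine ⟨k⁻¹, inv_mem (hKJ hk), fun a => h3 ?_, h8 ▸ (card_lt_card_of_lt (left_lt_sup.2 fun a =>
      hu.not_odd (a (mem_zpowers u)) a2)).trans_le (card_le_relIndex
        (sup_le h10 (zpowers_le_of_mem ⟨huJ, a1⟩)) (eq_bot_iff.2 fun y hy => ?_))⟩
    · rw [mul_inv_eq_iff_eq_mul.2 (mem_centralizer_singleton_iff.1 (inv_mem_iff.1 a))]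
    rw [inv_inv] at hy
    obtain ⟨x, hx, s, hs, rfl⟩ := (mem_sup_iff_of_le_normalizer (inf_le_right.trans
      (centralizer_zpowers u ▸ centralizer_le_normalizer _))).1 hy.1
    have a3 := h9 _ hw h2 fun a => h3 (by rw [a])
    rcases inv_cases hu hs with rfl | rfl
    · exact a3.le ⟨by simpa using hx, hy.2⟩
    have a5 : x * s * (x * s) = x * x := by
      rw [mul_assoc, ← mul_assoc s, ← mem_centralizer_singleton_iff.1 hx.2, mul_assoc, hu.1,
        mul_one]
    have a4 : x * x = 1 := mem_bot.1 (a3.le ⟨mul_mem hx hx, a5 ▸ (centralizer _).mul_mem hy.2 hy.2⟩)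
    obtain rfl := Invol.eq_one_of_odd (odd_orderOf_of_mem a2 hx) a4
    exact absurd (mem_centralizer_singleton_iff.1 hy.2) (by simpa using h3)

end Cz

theorem false_of_cx (G Ω : Type u) [Group G] [Finite G] [MulAction G Ω] : ¬ Cx G Ω := fun C => by
  obtain ⟨u, hu⟩ := C.hr
  obtain ⟨α, -⟩ := C.S.fix u hu.2.choose_spec.2.1
  obtain ⟨β, h⟩ := C.S.exists_ne α
  obtain ⟨p, z, t, K, c⟩ := C.exists_cz h.symm
  exact c.false

/-- a strongly embedded core-free subgroup of a group with abelian noncyclic Sylow `2`-subgroups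
is solvable -/
theorem isSolvable_of_abTwo {G : Type u} [Group G] [Finite G] {M : Subgroup G}
    (hM : IsStronglyEmbedded M) (hc : M.normalCore = ⊥) (hr : Rk2 (⊤ : Subgroup G))
    (hab : AbTwo G) : Group.IsSolvable M :=
  stab_quot_one M ▸ solv_of_no_cx false_of_cx G (G ⧸ M) (sea_of_isStronglyEmbedded hM) hr
    (faithful_quot hc) hab _

theorem rk2_of_simple [Finite G] [IsSimpleGroup G] (hna : ¬ IsMulCommutative G) {u : G}
    (hu : IsInv u) : Rk2 (⊤ : Subgroup G) := by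
  by_contra h
  have h1 : (piCoreOf {2}ᶜ (⊤ : Subgroup G)).Normal :=
    normalizer_eq_top_iff.1 (top_le_iff.1 (le_normalizer_piCoreOf ⊤))
  have h2 := h1.eq_bot_or_eq_top.resolve_right fun e =>
    hu.not_odd (e.ge (mem_top u)) (odd_piCoreOf ⊤)
  have h3 := (inferInstance : (center G).Normal).eq_bot_or_eq_top.resolve_left fun e =>
    hu.2 (mem_bot.1 (e ▸ mem_center_iff.2 fun g => mul_inv_eq_iff_eq_mul.1 (mul_inv_eq_one.1
      (mem_bot.1 (h2 ▸ zstar_of_not_rk2 h hu (mem_top u) (mem_top g))))))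
  exact hna ⟨⟨fun a b => mem_center_iff.1 (h3 ▸ mem_top b) a⟩⟩

/-- Bender–Suzuki for abelian Sylow `2`-subgroups. -/
theorem sl2_of_stronglyEmbedded {G : Type u} [Group G] [Finite G] [IsSimpleGroup G]
    (hna : ¬ IsMulCommutative G) (hab : AbTwo G) {M : Subgroup G}
    (hM : IsStronglyEmbedded M) : ∃ n : ℕ, 2 ≤ n ∧
      Nonempty (G ≃* Matrix.SpecialLinearGroup (Fin 2) (GaloisField 2 n)) := by
  obtain ⟨u, hu, -⟩ := (sea_of_isStronglyEmbedded hM).exists_inv ((1 : G) : G ⧸ M)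
  have hr := rk2_of_simple hna hu
  have hc := normalCore_eq_bot_of_simple hM.1
  obtain ⟨Q, t, R, h2⟩ := bender_solvable hM (isSolvable_of_abTwo hM hc hr hab) hc hr (Or.inl hab)
  obtain ⟨n, h3, -, -, h4, -⟩ :=
    R.simple_of_comm h2 (H5.isMulCommutative_iff'.1 (hab Q (R.isPGroup_two h2)))
  exact ⟨n, h3, h4⟩

end CfsgLib.SEG
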