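import Cfsg.Agent.Lib.SEG.Sub
import Cfsg.Agent.Lib.FrobeniusPComplement
import Cfsg.Agent.Lib.CoreSimpleInd

/-! Project SEG: the inductive setting. -/

set_option autoImplicit false

namespace CfsgLib.SEG

open Subgroup MulAction Cfsg CfsgLib.Cop CfsgLib.H1 CfsgLib.SE
open scoped commutatorElement

universe u

variable {G Ω : Type*} [Group G] [MulAction G Ω]

theorem solv_of_odd_relIndex [Finite G] {C N : Subgroup G} (h1 : C ≤ N)
    (h2 : N ≤ normalizer (C : Set G)) (hs : Group.IsSolvable C) (ho : Odd (C.relIndex N)) :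
    Group.IsSolvable N := by
  have := normal_subgroupOf_of_le_normalizer h2
  exact isSolvable_of_normal_of_quotient (C.subgroupOf N) (isSolvable_subgroupOf hs N)
    (FT.feit_thompson ho)

/-- abelian Sylow `2`-subgroups, and the involutions lie in a solvable normal subgroup -/
theorem solv_of_inv_le [Finite G] (ab : AbTwo G) {H J : Subgroup G} (h1 : J ≤ H)
    (h2 : H ≤ normalizer (J : Set G)) (hs : Group.IsSolvable J)
    (h3 : ∀ u ∈ H, IsInv u → u ∈ J) : Group.IsSolvable H := by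
  have : Fact (Nat.Prime 2) := ⟨Nat.prime_two⟩
  obtain ⟨T, hT⟩ := IsSylowIn.exists_in (p := 2) J
  set N := H ⊓ normalizer (T : Set G) with hN
  have hTN : T ≤ N := le_inf (hT.le.trans h1) le_normalizer
  obtain ⟨P, hTP, hP⟩ := IsSylowIn.exists_ge hT.isPGroup hTN
  have hPC : P ≤ N ⊓ centralizer (T : Set G) := le_inf hP.le fun x hx y hy =>
    H5.isMulCommutative_iff'.1 (ab P hP.isPGroup) y (hTP hy) x hx
  have hC : Group.IsSolvable ↥(N ⊓ centralizer (T : Set G)) := by
    refine isSolvable_of_hnpc_two (FrobNPC.hnpc_of_primePow_centralizes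
      fun Q hQ _ g hg q k hq hq2 e => ?_)
    have h4 := commutator_eq_bot_of_centralizes_omega_abelian (A := zpowers g) hQ
      ((ab.of_injective _ (subtype_injective _)) Q hQ) (zpowers_le_of_mem hg) (by
        rw [Nat.card_zpowers, e]
        exact ((Nat.coprime_primes hq Nat.prime_two).2 hq2).pow_left k) (fun x _ hx => by
        rw [centralizer_zpowers, mem_centralizer_singleton_iff]
        by_cases e1 : x = 1
        · simp [e1]
        have hx1 : IsInv (x : G) := ⟨by rw [← pow_two]; exact congrArg Subtype.val hx,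
          fun e => e1 (Subtype.ext e)⟩
        have h5 : T ⊔ zpowers (x : G) = T := hT.eq_of_le (by
          rw [sup_comm]
          exact isPGroup_sup_of_le_normalizer (Invol.isPGroup_zpowers hx1.1) hT.isPGroup
            (zpowers_le_of_mem x.2.1.2)) le_sup_left
          (sup_le hT.le (zpowers_le_of_mem (h3 _ x.2.1.1 hx1)))
        exact Subtype.ext (g.2.2 _ (h5.le (mem_sup_right (mem_zpowers _)))))
    exact commutator_eq_bot_iff_le_centralizer'.1 h4 (mem_zpowers g)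
  have hNs : Group.IsSolvable N := solv_of_odd_relIndex inf_le_left
    (le_normalizer_inf le_normalizer (le_normalizer_centralizer inf_le_right)) hC (by
      rw [← Nat.not_even_iff_odd, even_iff_two_dvd]
      exact fun e => hP.not_dvd (e.trans (relIndex_dvd_of_le_left _ hPC)))
  refine isSolvable_of_le ?_ (hT.frattini_le h1 h2)
  rw [sup_comm]
  exact isSolvable_sup (inf_le_left.trans h2) hNs hs

/-- what is used of the structure of a proper subgroup `M` acting on the orbit of `α` -/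
structure BT (M : Subgroup G) (α : Ω) : Prop where
  conc : Conc M α
  solv : Group.IsSolvable ↥(M ⊓ stabilizer G α)
  sq : ∀ a ∈ M, ∀ b ∈ M, IsInv a → IsInv b → a • α = α → b • α = α → ∀ m ∈ M,
    (a * b * (a * b)) • m • α = m • α
  tr : ∀ m ∈ M, ∀ m' ∈ M, m • α ≠ α → m' • α ≠ α → m • α ≠ m' • α →
    ∃ s ∈ M, IsInv s ∧ s • α = α ∧ s • m • α = m' • α

theorem bt_top {G Ω : Type u} [Group G] [Finite G] [MulAction G Ω] (S : SEA G Ω)
    (hr : Rk2 (⊤ : Subgroup G)) (hf : ∀ g : G, (∀ ω : Ω, g • ω = ω) → g = 1) (ab : AbTwo G)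
    (hs : ∀ ω : Ω, Group.IsSolvable (stabilizer G ω)) (α : Ω) : BT (⊤ : Subgroup G) α := by
  have hT := tc_of_h3 G Ω S hr hf hs (Or.inl ab)
  refine ⟨conc_of_tc S hT hr hf hs α, isSolvable_of_le (hs α) inf_le_right,
    fun a _ b _ ha hb h1 h2 m _ => ?_, fun m _ m' _ h1 h2 h3 => ?_⟩
  · rw [(show a * b * (a * b) = 1 by
      rw [mul_assoc, ← mul_assoc b, ← hT a b α ha hb h1 h2, mul_assoc, hb.1, mul_one, ha.1]),
      one_smul]
  · obtain ⟨Q, t, R, h4⟩ := exists_RO_of_tc G Ω S hT hr hf hs α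
    have hsq := R.sq_eq_one_of_comm h4 (H5.isMulCommutative_iff'.1 (ab Q (R.isPGroup_two h4)))
    have key : ∀ g : G, g • α ≠ α → ∃ x ∈ Q, g • α = x • t • α := fun g hg => by
      obtain ⟨h, hh, y, hy, rfl⟩ := R.canon g hg
      obtain ⟨x, hx, d, hd, rfl⟩ := R.dec h hh
      rw [Dg_eq ⟨R.tt, R.t_ne⟩ rfl] at hd
      refine ⟨x, hx, ?_⟩
      rw [mul_smul, mul_smul, mul_smul, show y • α = α from R.le hy,
        show d • t • α = t • α from hd.2]
    obtain ⟨x, hx, e1⟩ := key m h1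
    obtain ⟨y, hy, e2⟩ := key m' h2
    have h5 := Q.mul_mem hy (Q.inv_mem hx)
    refine ⟨y * x⁻¹, mem_top _, ⟨hsq _ h5, fun e => h3 ?_⟩, R.le h5, ?_⟩
    · rw [e1, e2, mul_inv_eq_one.1 e]
    · rw [e1, e2, mul_smul, inv_smul_smul]

theorem bt_of_red [Finite G] {M : Subgroup G} {α : Ω} {G' Δ : Type*} [Group G'] [MulAction G' Δ]
    {f : M →* G'} {j : Δ → Ω} (R : Red M α f j) (S : SEA G Ω) (hM : ¬ M ≤ stabilizer G α)
    (h : ∀ δ : Δ, BT (⊤ : Subgroup G') δ) : BT M α := by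
  obtain ⟨δ, e1⟩ := R.base
  refine ⟨R.conc S hM fun δ => (h δ).conc, ?_, fun a ha b hb hai hbi h1 h2 m hm => ?_,
    fun m hm m' hm' h1 h2 h3 => ?_⟩
  · have h1 := (h δ).solv
    rw [top_inf_eq, R.stab_eq, e1] at h1
    have h2 : Group.IsSolvable f.ker := FT.feit_thompson (R.odd_ker S hM)
    have h3 : Group.IsSolvable ((stabilizer G α).subgroupOf M) := by
      refine isSolvable_of_map_mk' h2 (isSolvable_of_le
        (isSolvable_comap_of_injective h1 _ (QuotientGroup.kerLift_injective f)) ?_)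
      rintro _ ⟨x, hx, rfl⟩
      exact ⟨x, hx, rfl⟩
    rw [inf_comm, ← subgroupOf_map_subtype]
    exact isSolvable_map h3 _
  · have := (h δ).sq (f ⟨a, ha⟩) (mem_top _) (f ⟨b, hb⟩) (mem_top _) (R.isInv_map S hM hai)
      (R.isInv_map S hM hbi) (R.smul_iff.2 (by rw [e1]; exact h1))
      (R.smul_iff.2 (by rw [e1]; exact h2)) (f ⟨m, hm⟩) (mem_top _)
    rw [← map_mul, ← map_mul, R.smul_iff, R.equiv, e1] at this
    exact this
  · obtain ⟨g, -, hg, h4, h5⟩ := (h δ).tr (f ⟨m, hm⟩) (mem_top _) (f ⟨m', hm'⟩) (mem_top _)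
      (fun e => h1 (by simpa [e1] using R.smul_iff.1 e))
      (fun e => h2 (by simpa [e1] using R.smul_iff.1 e))
      (fun e => h3 (by simpa [R.equiv, e1] using congrArg j e))
    obtain ⟨s, hs, rfl⟩ := R.lift S hM hg
    refine ⟨s, s.2, hs, by simpa [e1] using R.smul_iff.1 h4, ?_⟩
    simpa [R.equiv, e1] using congrArg j h5

/-- the subgroup generated by the involutions fixing `α` -/
def Jg (G : Type*) [Group G] [MulAction G Ω] (α : Ω) : Subgroup G :=
  closure {u | IsInv u ∧ u • α = α}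

theorem mem_Jg {α : Ω} {u : G} (hu : IsInv u) (h : u • α = α) : u ∈ Jg G α :=
  subset_closure ⟨hu, h⟩

theorem Jg_le_iff {α : Ω} {K : Subgroup G} :
    Jg G α ≤ K ↔ ∀ u, IsInv u → u • α = α → u ∈ K :=
  ⟨fun h _ a b => h (mem_Jg a b), fun h => (closure_le _).2 fun u hu => h u hu.1 hu.2⟩

theorem Jg_le (α : Ω) : Jg G α ≤ stabilizer G α := Jg_le_iff.2 fun _ _ h => h

theorem conj_mem_Jg {α : Ω} {x : G} (g : G) (hx : x ∈ Jg G α) : g * x * g⁻¹ ∈ Jg G (g • α) :=
  (Jg_le_iff (K := (Jg G (g • α)).comap (MulAut.conj g).toMonoidHom)).2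
    (fun _ a b => mem_Jg (a.conj g) (conj_smul_eq b)) hx

theorem le_normalizer_Jg [Finite G] (α : Ω) : stabilizer G α ≤ normalizer (Jg G α : Set G) :=
  fun g hg => mem_normalizer_of_conj_mem fun x hx => by
    have := conj_mem_Jg g hx
    rwa [show g • α = α from hg] at this

/-- a counterexample of least order -/
structure Cx (G Ω : Type*) [Group G] [MulAction G Ω] : Prop where
  S : SEA G Ω
  hr : Rk2 (⊤ : Subgroup G)
  hf : ∀ g : G, (∀ ω : Ω, g • ω = ω) → g = 1
  ab : AbTwo G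
  ih : ∀ (M : Subgroup G) (α : Ω), M ≠ ⊤ → Rk2 (M ⊓ stabilizer G α) → ¬ M ≤ stabilizer G α →
    BT M α
  ns : ∀ α : Ω, ¬ Group.IsSolvable (Jg G α)

theorem solv_of_no_cx
    (h : ∀ (G Ω : Type u) [Group G] [Finite G] [MulAction G Ω], ¬ Cx G Ω)
    (G : Type u) [Group G] [Finite G] :
    ∀ (Ω : Type u) [MulAction G Ω], SEA G Ω → Rk2 (⊤ : Subgroup G) →
      (∀ g : G, (∀ ω : Ω, g • ω = ω) → g = 1) → AbTwo G →
      ∀ ω : Ω, Group.IsSolvable (stabilizer G ω) := by
  revert G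
  refine card_induction fun G _ _ ih => ?_
  intro Ω _ S hr hf ab ω
  by_contra hω
  refine h G Ω ⟨S, hr, hf, ab, fun M β hM h1 h2 => ?_, fun α hα => hω ?_⟩
  · have R := red_orbit M β
    have := R.finite
    obtain ⟨a, ha, -, -, hai, -⟩ := id h1
    have S' := R.sea S h2 hai ha.1 ha.2
    have hr' := R.rk2 S h2 (h1.mono inf_le_left)
    have ab' := (ab.of_injective _ M.subtype_injective).of_surjective _ R.surj
    exact bt_of_red R S h2 (bt_top S' hr' R.faith ab'
      (ih _ (R.card_le.trans_lt (card_lt_of_ne_top hM)) _ S' hr' R.faith ab'))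
  · obtain ⟨g, rfl⟩ := S.trans α ω
    rw [stab_smul]
    exact isSolvable_map (solv_of_inv_le ab (Jg_le α) (le_normalizer_Jg α) hα
      fun u hu hi => mem_Jg hi hu) _

namespace Cx

variable [Finite G] (C : Cx G Ω)
include C

theorem norm_ne_top {X : Subgroup G} (hX : Odd (Nat.card X)) (h : X ≠ ⊥) :
    normalizer (X : Set G) ≠ ⊤ := fun e => h (eq_bot_iff.2 fun x hx => C.hf x fun ω => by
  obtain ⟨a, ha, b, -, h5, h6, h7, h8⟩ := C.S.rk2_stab C.hr ω
  exact C.S.le_stab_of_four h5 h6 h7 h8 ha hX (e ▸ mem_top a) (e ▸ mem_top b) hx)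

theorem cent_ne_top {X : Subgroup G} (hX : Odd (Nat.card X)) (h : X ≠ ⊥) :
    centralizer (X : Set G) ≠ ⊤ := fun e =>
  C.norm_ne_top hX h (top_le_iff.1 (e ▸ centralizer_le_normalizer _))

theorem le_stab_of_inv {N : Subgroup G} (hN : N ≠ ⊤) {γ : Ω}
    (h : ∀ u, IsInv u → u • γ = γ → u ∈ N) : N ≤ stabilizer G γ := by
  by_contra h1
  refine C.ns γ (isSolvable_of_le (C.ih N γ hN ?_ h1).solv (le_inf (Jg_le_iff.2 h) (Jg_le γ)))
  obtain ⟨a, ha, b, hb, h3, h4, h5⟩ := C.S.rk2_stab C.hr γ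
  exact ⟨a, ⟨h a h3 ha, ha⟩, b, ⟨h b h4 hb, hb⟩, h3, h4, h5⟩

theorem exists_not_comm (α : Ω) :
    ∃ a b : G, IsInv a ∧ IsInv b ∧ a • α = α ∧ b • α = α ∧ a * b ≠ b * a := by
  by_contra h
  push Not at h
  refine C.ns α ?_
  have : IsMulCommutative (Jg G α) := by
    refine H5.isMulCommutative_iff'.2 fun x hx y hy => ?_
    have h1 : Jg G α ≤ centralizer (Jg G α : Set G) := Jg_le_iff.2 fun u a b =>
      mem_cent_of_le (Jg_le_iff.2 fun v c d => mem_centralizer_singleton_iff.2 (h v u c a d b))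
    exact h1 hy x hx
  exact isSolvable_of_isMulCommutative

end Cx

end CfsgLib.SEG
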