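import Cfsg.Agent.Lib.SEG.Ctx

/-! Project SEG: an involution centralizes the invariant three point stabilizers, part 1. -/

set_option autoImplicit false

namespace CfsgLib.SEG

open Subgroup MulAction Cfsg CfsgLib.Cop CfsgLib.H1 CfsgLib.SE
open scoped commutatorElement

variable {G Ω : Type*} [Group G] [MulAction G Ω]

/-- the kernel of the action of `N` on the orbit of `δ` -/
def Ker (N : Subgroup G) (δ : Ω) : Subgroup G := N ⊓ ⨅ m : N, stabilizer G ((m : G) • δ)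

theorem mem_Ker {N : Subgroup G} {δ : Ω} {x : G} :
    x ∈ Ker N δ ↔ x ∈ N ∧ ∀ m ∈ N, x • m • δ = m • δ := by
  simp [Ker, mem_iInf]

theorem Ker_le (N : Subgroup G) (δ : Ω) : Ker N δ ≤ N := inf_le_left

theorem Ker_le_stab {N : Subgroup G} (δ : Ω) {m : G} (hm : m ∈ N) :
    Ker N δ ≤ stabilizer G (m • δ) := fun _ hx => (mem_Ker.1 hx).2 m hm

theorem Ker_le_stab' (N : Subgroup G) (δ : Ω) : Ker N δ ≤ stabilizer G δ := by
  simpa using Ker_le_stab δ N.one_mem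

theorem Ker_smul {N : Subgroup G} (δ : Ω) {m : G} (hm : m ∈ N) : Ker N (m • δ) = Ker N δ := by
  ext x
  simp only [mem_Ker]
  refine and_congr_right fun _ => ⟨fun h n hn => ?_, fun h n hn => ?_⟩
  · simpa [mul_smul] using h (n * m⁻¹) (mul_mem hn (inv_mem hm))
  · simpa [mul_smul] using h (n * m) (mul_mem hn hm)

theorem le_normalizer_Ker [Finite G] (N : Subgroup G) (δ : Ω) :
    N ≤ normalizer (Ker N δ : Set G) := fun g hg => mem_normalizer_of_conj_mem fun x hx => by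
  refine mem_Ker.2 ⟨mul_mem (mul_mem hg (mem_Ker.1 hx).1) (inv_mem hg), fun m hm => ?_⟩
  have := (mem_Ker.1 hx).2 (g⁻¹ * m) (mul_mem (inv_mem hg) hm)
  rw [mul_smul] at this
  rw [mul_smul, mul_smul, this, smul_inv_smul]

/-- `M = [M, t] ≠ 1` is of maximal order among the groups `[G_{δ, γ, sγ}, s]` -/
structure Sit (M : Subgroup G) (t : G) (δ : Ω) : Prop where
  inv : IsInv t
  fix : t • δ = δ
  eq : cm M t = M
  le : M ≤ stabilizer G δ
  odd : Odd (Nat.card M)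
  ne : M ≠ ⊥
  mx : ∀ (s : G) (ε γ : Ω), IsInv s → s • ε = ε → γ ≠ ε →
    Nat.card (cm (st2 G γ (s • γ) ⊓ stabilizer G ε) s) ≤ Nat.card M

theorem norm_st2 [Finite G] {t : G} (ht : IsInv t) (γ : Ω) :
    t ∈ normalizer (st2 G γ (t • γ) : Set G) := mem_normalizer_st2 rfl (ht.smul_smul γ)

theorem norm_inf {g : G} {A B : Subgroup G} (h1 : g ∈ normalizer (A : Set G))
    (h2 : g ∈ normalizer (B : Set G)) : g ∈ normalizer ((A ⊓ B : Subgroup G) : Set G) :=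
  le_normalizer_inf (zpowers_le_of_mem h1) (zpowers_le_of_mem h2) (mem_zpowers g)

namespace Sit

variable {M : Subgroup G} {t : G} {δ : Ω} (h : Sit M t δ)
include h

theorem norm : t ∈ normalizer (M : Set G) := h.eq ▸ mem_normalizer_cm M t

theorem le_iff {K : Subgroup G} : M ≤ K ↔ ∀ x ∈ M, x * t * x⁻¹ * t⁻¹ ∈ K := by
  rw [← cm_le_iff h.inv, h.eq]

theorem conj (g : G) : Sit (M.map (MulAut.conj g).toMonoidHom) (g * t * g⁻¹) (g • δ) where
  inv := h.inv.conj g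
  fix := conj_smul_eq h.fix
  eq := by rw [← cm_map_conj, h.eq]
  le := map_conj_le_stab h.le
  odd := by rw [card_map_conj]; exact h.odd
  ne := fun e => h.ne ((map_eq_bot_iff_of_injective _ (MulAut.conj g).injective).1 e)
  mx := by rw [card_map_conj]; exact h.mx

theorem le_st2 {γ : Ω} (h1 : M ≤ stabilizer G γ) : M ≤ st2 G γ (t • γ) :=
  le_inf h1 (le_stab_smul h.norm h1)

variable [Finite G]

theorem cm_eq {γ : Ω} (hne : γ ≠ δ) {X : Subgroup G} (h1 : M ≤ X) (h2 : X ≤ stabilizer G δ)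
    (h3 : X ≤ stabilizer G γ) (h4 : t ∈ normalizer (X : Set G)) : cm X t = M := by
  refine (eq_of_le_of_card_le (h.eq.ge.trans (cm_mono h1 t)) ?_).symm
  exact (card_le_of_le (cm_mono (le_inf (le_inf h3 (le_stab_smul h4 h3)) h2) t)).trans
    (h.mx t δ γ h.inv h.fix hne)

theorem cm_T {γ : Ω} (hne : γ ≠ δ) (h1 : M ≤ stabilizer G γ) :
    cm (st2 G γ (t • γ) ⊓ stabilizer G δ) t = M :=
  h.cm_eq hne (le_inf (h.le_st2 h1) h.le) inf_le_right (inf_le_left.trans inf_le_left)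
    (norm_inf (norm_st2 h.inv γ) (le_normalizer h.fix))

theorem pCore_le (S : SEA G Ω) (p : ℕ) {γ : Ω} (hne : γ ≠ δ) (h1 : M ≤ stabilizer G γ) :
    pCoreOf p M ≤ pCoreOf p (st2 G γ (t • γ)) := by
  rw [← h.cm_T hne h1]
  exact pCore_cm_le h.inv (S.odd_st2 (S.smul_ne h.inv h.fix hne).symm) (norm_st2 h.inv γ) _
    (norm_inf (norm_st2 h.inv γ) (le_normalizer h.fix))
    (inf_le_inf_left _ (S.cent_le h.inv h.fix)) inf_le_left

theorem piCore_cent {p : ℕ} [Fact p.Prime]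
    (h1 : ∀ (ℓ : ℕ) [Fact ℓ.Prime], ℓ ≠ p → pCoreOf ℓ M ≤ centralizer {t}) {X : Subgroup G}
    (h2 : M ≤ X) (h3 : t ∈ normalizer (X : Set G)) (h4 : Odd (Nat.card X))
    (h5 : cm (piCoreOf {p}ᶜ X) t ≤ M) : piCoreOf {p}ᶜ X ≤ centralizer {t} := by
  have h6 := normalizer_le_normalizer_piCoreOf (π := {p}ᶜ) X h3
  exact le_cent_of_cm h.inv (odd_of_le h4 (piCoreOf_le X)) h6
    (((le_inf (cm_le h6) h5).trans (piCoreOf_inf_le h2)).trans
      (piCore_le_cent h.inv h.odd h.norm h1))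

theorem exists_prime : ∃ p : ℕ, p.Prime ∧ p ≠ 2 ∧ ¬ pCoreOf p M ≤ centralizer {t} := by
  by_contra h1
  push Not at h1
  refine h.ne ?_
  rw [← h.eq, cm_eq_bot_iff]
  refine le_cent_of_pCore h.inv h.odd h.norm fun ℓ hl => ?_
  by_cases e : ℓ = 2
  · subst e
    rw [H5.eq_bot_of_isPGroup_of_coprime (pCoreOf_isPGroup (p := 2) M)
      (Nat.coprime_two_right.2 (odd_of_le h.odd (pCoreOf_le _)))]
    exact bot_le
  · exact h1 ℓ hl.out e

end Sit

namespace Cx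

variable [Finite G] (C : Cx G Ω)
include C

theorem not_le {t : G} {δ γ : Ω} (ht : IsInv t) (h : t • δ = δ) (hne : γ ≠ δ) :
    ¬ st2 G γ (t • γ) ≤ stabilizer G δ := fun h1 => by
  have h2 : st2 G γ (t • γ) = st2 G δ γ := eq_of_le_of_card_le (le_inf h1 inf_le_left)
    (C.S.card_st2_sigma ht h hne).le
  have h3 : t ∈ normalizer (st2 G δ γ : Set G) := h2 ▸ norm_st2 ht γ
  have h4 : ∀ u, IsInv u → u • δ = δ → u * t⁻¹ ∈ st2 G δ γ := fun u hu e => by
    obtain ⟨d, hd, rfl⟩ := C.S.exists_conj hne.symm ht hu h e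
    exact cm_le h3 (mem_cm hd t)
  obtain ⟨a, ha, b, hb, h5, h6, h7, h8⟩ := C.S.rk2_stab C.hr δ
  refine (isInv_mul h5 h6 h7 h8).not_odd ?_ (C.S.odd_st2 hne.symm)
  simpa [h6.inv_eq, mul_assoc] using mul_mem (h4 a h5 ha) (inv_mem (h4 b h6 hb))

theorem false_of_eq {t : G} {δ γ γ' : Ω} (ht : IsInv t) (h : t • δ = δ) (hne : γ ≠ δ)
    (hne' : γ' ≠ δ) {ℓ : ℕ} (e : pCoreOf ℓ (st2 G δ γ') = pCoreOf ℓ (st2 G γ (t • γ)))
    (h1 : pCoreOf ℓ (st2 G γ (t • γ)) ≠ ⊥) : False := by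
  refine C.not_le ht h hne ((le_normalizer_pCoreOf (p := ℓ) _).trans (C.le_stab_of_inv
    (C.norm_ne_top (odd_of_le (C.S.odd_st2 (C.S.smul_ne ht h hne).symm) (pCoreOf_le _)) h1)
    fun u hu e1 => ?_))
  obtain ⟨d, hd, rfl⟩ := C.S.exists_conj hne'.symm ht hu h e1
  have h2 := le_normalizer_pCoreOf (p := ℓ) _ hd
  rw [e] at h2
  exact mul_mem (mul_mem h2 (normalizer_le_normalizer_pCoreOf _ (norm_st2 ht γ))) (inv_mem h2)

section B

variable {M N : Subgroup G} {t : G} {δ : Ω} (h : Sit M t δ) (hN : N ≠ ⊤) (hM : M ≤ N)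
  (ht : t ∈ N) (hδ : ¬ N ≤ stabilizer G δ) (h2 : Rk2 N)
include h hN hM ht hδ h2

omit hM in
theorem b_bt {m : G} (hm : m ∈ N) : BT N (m • δ) :=
  C.ih N _ hN (C.S.rk2_inf (h.inv.conj m) (mul_mem (mul_mem hm ht) (inv_mem hm))
    (conj_smul_eq h.fix) h2) fun e => hδ fun x hx => by
      have h3 : m • δ = δ := smul_left_cancel m (e hm)
      rw [← h3]; exact e hx

theorem b_le_Ker : M ≤ Ker N δ := by
  have B := C.b_bt h hN ht hδ h2 N.one_mem
  rw [one_smul] at B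
  refine h.le_iff.2 fun x hx => mem_of_sq_mem
    (odd_orderOf_of_mem h.odd (h.eq ▸ mem_cm hx t)) ?_
  have h3 := N.mul_mem (N.mul_mem (hM hx) ht) (N.inv_mem (hM hx))
  have h4 := N.mul_mem h3 (N.inv_mem ht)
  refine mem_Ker.2 ⟨N.mul_mem h4 h4, fun m hm => B.sq _ h3 _ (N.inv_mem ht) (h.inv.conj x)
    (h.inv.inv_eq.symm ▸ h.inv) ?_ (h.inv.inv_eq.symm ▸ h.fix) m hm⟩
  have := conj_smul_eq (g := x) h.fix
  rwa [show x • δ = δ from h.le hx] at this

omit h hN hM ht h2 in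
theorem odd_Ker : Odd (Nat.card (Ker N δ)) := by
  obtain ⟨m, hm, h3⟩ := SetLike.not_le_iff_exists.1 hδ
  exact C.S.odd_of_le h3 (Ker_le_stab δ hm) (Ker_le_stab' N δ)

theorem b_cm : cm (Ker N δ) t = M := by
  obtain ⟨m, hm, h3⟩ := SetLike.not_le_iff_exists.1 hδ
  exact h.cm_eq h3 (C.b_le_Ker h hN hM ht hδ h2) (Ker_le_stab' N δ) (Ker_le_stab δ hm)
    (le_normalizer_Ker N δ ht)

omit hN hM h2 in
theorem b_conj {u : G} (hu : IsInv u) (huN : u ∈ N) : ∃ d ∈ N, d * t * d⁻¹ = u := by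
  obtain ⟨m, hm, h3⟩ := SetLike.not_le_iff_exists.1 hδ
  exact C.S.exists_conj_in hm h3 h.inv ht h.fix hu huN

theorem b_pCore_le (p : ℕ) : pCoreOf p M ≤ pCoreOf p (Ker N δ) :=
  pCoreOf_le_of_le_normalizer (C.b_le_Ker h hN hM ht hδ h2)
    (C.b_cm h hN hM ht hδ h2 ▸ le_normalizer_cm _ t)

theorem b_cent {p : ℕ} (hp : ¬ pCoreOf p M ≤ centralizer {t}) :
    centralizer (pCoreOf p M : Set G) ≤ stabilizer G δ := by
  obtain ⟨b, hb, h3, h4, h5⟩ : ∃ b ∈ N, IsInv b ∧ t ≠ b ∧ t * b = b * t := by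
    obtain ⟨a, ha, b, hb, h3, h4, h5, h6⟩ := h2
    obtain ⟨d, hd, rfl⟩ := C.b_conj h ht hδ h3 ha
    refine ⟨d⁻¹ * b * d⁻¹⁻¹, mul_mem (mul_mem (inv_mem hd) hb) (inv_mem (inv_mem hd)), h4.conj _,
      fun e => h5 (by rw [e]; group), comm_conj (by rwa [inv_inv])⟩
  have hn := (le_normalizer_Ker N δ).trans (normalizer_le_normalizer_pCoreOf (p := p) _)
  have ho := odd_of_le (C.odd_Ker hδ) (pCoreOf_le (p := p) _)
  obtain ⟨v, hv, y, hy, hy1, e1, e2⟩ := exists_step h.inv h3 h4 h5 ho (hn ht) (hn hb)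
    fun e => hp ((C.b_pCore_le h hN hM ht hδ h2 p).trans e)
  have hv' : IsInv v := by
    rcases hv with rfl | rfl
    exacts [h3, isInv_mul h.inv h3 h4 h5]
  have hyo := odd_orderOf_of_mem ho hy
  have h6 : y ∈ pCoreOf p M := pCoreOf_inf_le (C.b_le_Ker h hN hM ht hδ h2)
    ⟨hy, C.b_cm h hN hM ht hδ h2 ▸ mem_cm_of_inverts (pCoreOf_le _ hy) hyo e2⟩
  exact fun x hx => C.S.cent_le_of_inverts hyo hy1 h.inv hv' h.fix e2 e1.symm
    (mem_centralizer_singleton_iff.2 (hx y h6).symm)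

theorem b_eq {p q : ℕ} [Fact p.Prime] [Fact q.Prime] (hpq : p ≠ q)
    (hp : ¬ pCoreOf p M ≤ centralizer {t}) (hq : ¬ pCoreOf q M ≤ centralizer {t}) {γ : Ω}
    (hne : γ ≠ δ) (h1 : M ≤ stabilizer G γ) :
    pCoreOf p (st2 G γ (t • γ) ⊓ stabilizer G δ) = pCoreOf p (st2 G γ (t • γ)) := by
  have key : ∀ r : ℕ, ¬ pCoreOf r M ≤ centralizer {t} →
      st2 G γ (t • γ) ⊓ centralizer (pCoreOf r (st2 G γ (t • γ)) : Set G) ≤
        st2 G γ (t • γ) ⊓ stabilizer G δ := fun r hr => inf_le_inf_left _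
    ((centralizer_le (h.pCore_le C.S r hne h1)).trans (C.b_cent h hN hM ht hδ h2 hr))
  exact pCore_eq_of_cent hpq ((le_inf (pCoreOf_le _) (pCore_le_cent_pCore hpq.symm _)).trans
    (key p hp)) inf_le_left (key q hq)

theorem b_one {p q : ℕ} [Fact p.Prime] [Fact q.Prime] (hpq : p ≠ q)
    (hp : ¬ pCoreOf p M ≤ centralizer {t}) (hq : ¬ pCoreOf q M ≤ centralizer {t}) : False := by
  obtain ⟨m, hm, h3⟩ := SetLike.not_le_iff_exists.1 hδ
  have h3' : m • δ ≠ δ := h3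
  have hK := C.b_le_Ker h hN hM ht hδ h2
  have h4 := hK.trans (Ker_le_stab δ hm)
  have htm := N.mul_mem ht hm
  obtain ⟨s, hs, h5, h6, h7⟩ := (C.b_bt h hN ht hδ h2 htm).tr _ (N.inv_mem htm) t ht
    (by rw [inv_smul_smul, mul_smul]; exact (smul_ne_of_fix h.fix h3').symm)
    (by rw [mul_smul, h.inv.smul_smul]; exact (C.S.smul_ne h.inv h.fix h3').symm)
    (by rw [inv_smul_smul, mul_smul, h.inv.smul_smul]; exact h3'.symm)
  rw [inv_smul_smul, mul_smul, h.inv.smul_smul] at h7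
  rw [mul_smul] at h6
  obtain ⟨d, hd, rfl⟩ := C.b_conj h ht hδ h5 hs
  have h8 : d • δ = t • m • δ := C.S.uniq _ h5 _ _ (conj_smul_eq h.fix) h6
  have h9 : M.map (MulAut.conj d).toMonoidHom ≤ Ker N δ := by
    rintro _ ⟨x, hx, rfl⟩
    exact conj_mem_of_mem_normalizer (le_normalizer_Ker N δ hd) (hK hx)
  have hc : ∀ r : ℕ, ¬ pCoreOf r M ≤ centralizer {t} →
      ¬ pCoreOf r (M.map (MulAut.conj d).toMonoidHom) ≤ centralizer {d * t * d⁻¹} :=
    fun r hr e => hr fun x hx => by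
      have := mem_centralizer_singleton_iff.1 (e (pCoreOf_map_conj M d ▸ conj_mem_map_conj hx))
      rw [conj_mul, conj_mul] at this
      exact mem_centralizer_singleton_iff.2 (by simpa using this)
  have h10 : d • δ ≠ δ := h8 ▸ smul_ne_of_fix h.fix h3'
  have e1 := C.b_eq (h.conj d) hN (h9.trans (Ker_le N δ)) hs (fun e => h10 (smul_left_cancel d
    (e hd))) h2 hpq (hc p hp) (hc q hq) h10.symm (h9.trans (Ker_le_stab' N δ))
  have e2 := C.b_eq h hN hM ht hδ h2 hpq hp hq h3' h4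
  rw [h7, h8] at e1
  refine C.false_of_eq h.inv h.fix h3' h3' (ℓ := p) ?_ fun e => hp ?_
  · rw [← e1, ← e2, st2, st2, inf_comm _ (stabilizer G δ), inf_assoc]
  · exact ((h.pCore_le C.S p h3' h4).trans e.le).trans bot_le

theorem b_step {p : ℕ} [Fact p.Prime] (hp2 : p ≠ 2) (hp : ¬ pCoreOf p M ≤ centralizer {t})
    (h1 : ∀ (ℓ : ℕ) [Fact ℓ.Prime], ℓ ≠ p → pCoreOf ℓ M ≤ centralizer {t}) {α : Ω} (hne : α ≠ δ)
    (h3 : Rk2 (N ⊓ stabilizer G α)) {X : Subgroup G} (hX : IsSylowIn p X (N ⊓ st2 G α (t • α)))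
    (htX : t ∈ normalizer (X : Set G)) :
    M ≤ normalizer (dSub X : Set G) ∧
      ∀ a ∈ N, IsInv a → a • α = α → a ∈ normalizer (dSub X : Set G) := by
  have hβ := C.S.smul_ne h.inv h.fix hne
  obtain ⟨a₀, ha₀, -, -, ha₀i, -⟩ := id h3
  obtain ⟨m, hm, -, -, rfl, -⟩ := C.S.exists_swap_mem h.inv ha₀i h.fix ha₀.2 hne.symm ht ha₀.1
  have B := C.b_bt h hN ht hδ h2 hm
  set α := m • δ with hα
  have hW : Ker N α = Ker N δ := Ker_smul δ hm
  have hS : IsSylowIn p X (N ⊓ stabilizer G α) := by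
    obtain ⟨P, hP⟩ := IsSylowIn.exists_in (p := p) (N ⊓ stabilizer G α)
    refine hP.of_card_le hX.isPGroup (hX.le.trans (inf_le_inf_left _ inf_le_left)) ?_
    obtain ⟨n, hn, h4, h5⟩ := B.conc.c1 p Fact.out hp2 P hP.le hP.isPGroup
    by_cases e : n • α = t • α
    · exact hX.card_le hP.isPGroup (le_inf (hP.le.trans inf_le_left)
        (le_inf (hP.le.trans inf_le_right) (e ▸ h5)))
    obtain ⟨s, hs, -, h6, h7⟩ := B.tr n hn t ht h4 hβ e
    rw [← card_map_conj s P]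
    refine hX.card_le (hP.isPGroup.map _) (le_inf ?_ (le_inf ?_ (h7 ▸ map_conj_le_stab h5)))
    · rintro _ ⟨x, hx, rfl⟩
      exact N.mul_mem (N.mul_mem hs (hP.le hx).1) (N.inv_mem hs)
    · have := map_conj_le_stab (g := s) (hP.le.trans inf_le_right)
      rwa [h6] at this
  have hWα : Ker N δ ≤ N ⊓ stabilizer G α := le_inf (Ker_le N δ) (Ker_le_stab δ hm)
  have hU : Odd (Nat.card (piCoreOf {p}ᶜ (N ⊓ stabilizer G α))) := by
    refine odd_of_forall fun u hu hi => hp ?_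
    obtain ⟨d, hd, rfl⟩ := C.b_conj h ht hδ hi (piCoreOf_le _ hu).1
    have h4 : pCoreOf p (Ker N δ) ≤ centralizer {d * t * d⁻¹} :=
      (pCoreOf_le_of_le_normalizer hWα (inf_le_left.trans (le_normalizer_Ker N δ))).trans
        (le_cent_of_mem (piCore_le_cent_pCore _ hu))
    have h5 := le_cent_conj (inv_mem (normalizer_le_normalizer_pCoreOf _
      (le_normalizer_Ker N δ hd))) h4
    refine (C.b_pCore_le h hN hM ht hδ h2 p).trans ?_
    simpa [mul_assoc] using h5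
  have hUW : piCoreOf {p}ᶜ (N ⊓ stabilizer G α) ≤ piCoreOf {p}ᶜ (Ker N δ) := by
    refine le_trans (le_inf le_rfl fun x hx => ?_) (piCoreOf_inf_le hWα)
    rw [← hW]
    exact mem_Ker.2 ⟨(piCoreOf_le _ hx).1, fun n hn =>
      B.conc.c2 _ (piCoreOf_le _) hU (le_normalizer_piCoreOf _) n hn hx⟩
  have h4 : piCoreOf {p}ᶜ (Ker N δ) ≤ centralizer {t} :=
    h.piCore_cent h1 (C.b_le_Ker h hN hM ht hδ h2) (le_normalizer_Ker N δ ht) (C.odd_Ker hδ)
      ((cm_mono (piCoreOf_le _) t).trans (C.b_cm h hN hM ht hδ h2).le)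
  have h5 : ∀ a ∈ N, IsInv a → a • α = α → a ∈ normalizer (dSub X : Set G) := by
    intro a ha hai e
    refine mem_norm_dSub hp2 B.solv (C.ab.of_injective _ (subtype_injective _)) hS hai
      (le_normalizer ⟨ha, e⟩) hU (hUW.trans ?_)
    obtain ⟨d, hd, rfl⟩ := C.b_conj h ht hδ hai ha
    exact le_cent_conj (normalizer_le_normalizer_piCoreOf _ (le_normalizer_Ker N δ hd)) h4
  have h6 := normalizer_le_normalizer_dSub X htX
  refine ⟨h.le_iff.2 fun w hw => mul_mem ?_ (inv_mem h6), h5⟩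
  have hw' := Ker_le_stab δ hm (C.b_le_Ker h hN hM ht hδ h2 hw)
  have h7 : (w * t * w⁻¹) • α = t • α := by
    have h8 := (h.le_st2 (fun _ a => Ker_le_stab δ hm (C.b_le_Ker h hN hM ht hδ h2 a)) hw).2
    rw [mul_smul, mul_smul, show w⁻¹ • α = α from inv_mem hw', show w • t • α = t • α from h8]
  have hi := h.inv.conj w
  have hiN := N.mul_mem (N.mul_mem (hM hw) ht) (N.inv_mem (hM hw))
  set s := w * t * w⁻¹
  have h8 : (s * a₀ * s⁻¹) • t • α = t • α := h7 ▸ conj_smul_eq ha₀.2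
  have h9 : s * a₀ * s⁻¹ ∈ normalizer (dSub X : Set G) := by
    have := h5 _ (N.mul_mem (N.mul_mem (N.inv_mem ht) (N.mul_mem (N.mul_mem hiN ha₀.1)
      (N.inv_mem hiN))) (N.inv_mem (N.inv_mem ht))) ((ha₀i.conj s).conj _)
      (by simpa using conj_smul_eq (g := t⁻¹) h8)
    simpa [mul_assoc] using mul_mem (mul_mem h6 this) (inv_mem h6)
  obtain ⟨r, hr, hri, e1, e2, -⟩ := C.S.exists_swap_mem ha₀i (ha₀i.conj s) ha₀.2 h8 hβ.symm
    (h5 a₀ ha₀.1 ha₀i ha₀.2) h9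
  rwa [← C.S.swap_unique hβ.symm ha₀i ha₀.2 hri hi e2 h7 e1]

theorem b_two {p : ℕ} [Fact p.Prime] (hp2 : p ≠ 2) (hp : ¬ pCoreOf p M ≤ centralizer {t})
    (h1 : ∀ (ℓ : ℕ) [Fact ℓ.Prime], ℓ ≠ p → pCoreOf ℓ M ≤ centralizer {t}) : False := by
  obtain ⟨m, hm, h3⟩ := SetLike.not_le_iff_exists.1 hδ
  have hne : m • δ ≠ δ := h3
  have hMα := (C.b_le_Ker h hN hM ht hδ h2).trans (Ker_le_stab δ hm)
  have h4 := C.S.rk2_inf (h.inv.conj m) (mul_mem (mul_mem hm ht) (inv_mem hm))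
    (conj_smul_eq h.fix) h2
  clear h3
  generalize m • δ = α at *
  have hβ := C.S.smul_ne h.inv h.fix hne
  have hD := C.S.odd_st2 hβ.symm
  have hex : ∀ L : Subgroup G, t ∈ L → ∀ U : Subgroup G, IsPGroup p U →
      U ≤ L ⊓ st2 G α (t • α) → t ∈ normalizer (U : Set G) →
      ∃ P, IsSylowIn p P (L ⊓ st2 G α (t • α)) ∧ t ∈ normalizer (P : Set G) ∧ U ≤ P :=
    fun L a U b c d => h.inv.exists_sylow_ge (odd_of_le hD inf_le_right)
      (norm_inf (le_normalizer a) (norm_st2 h.inv α)) b c d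
  obtain ⟨X, ⟨L, hL, hML, htL, hL2, hX, htX⟩, hmax⟩ := Set.exists_max_image
    {X : Subgroup G | ∃ L : Subgroup G, L ≠ ⊤ ∧ M ≤ L ∧ t ∈ L ∧ Rk2 (L ⊓ stabilizer G α) ∧
      IsSylowIn p X (L ⊓ st2 G α (t • α)) ∧ t ∈ normalizer (X : Set G)}
    (fun X => Nat.card X) (Set.toFinite _) (by
      obtain ⟨P, a, b, -⟩ := hex N ht ⊥ IsPGroup.of_bot bot_le
        (le_normalizer_of_normal (mem_top t))
      exact ⟨P, N, hN, hM, ht, h4, a, b⟩)
  obtain ⟨a, ha, b, hb, hai, hbi, hab⟩ := id hL2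
  obtain ⟨h5, h6⟩ := C.b_step h hL hML htL (fun e => hne (C.S.uniq a hai _ _ ha.2 (e ha.1)))
    (hL2.mono inf_le_left) hp2 hp h1 hne hL2 hX htX
  have h7 := normalizer_le_normalizer_dSub X htX
  have hX0 : X ≠ ⊥ := fun e => hp (by
    have := hX.card_le (pCoreOf_isPGroup (p := p) M)
      ((pCoreOf_le M).trans (le_inf hML (h.le_st2 hMα)))
    rw [e, card_bot, Subgroup.card_le_one_iff_eq_bot] at this
    rw [this]; exact bot_le)
  have hXD := hX.le.trans inf_le_right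
  have h8 := C.norm_ne_top (odd_of_le hD ((dSub_le X).trans hXD)) (dSub_ne_bot hX.isPGroup hX0)
  have h9 : IsSylowIn p X (st2 G α (t • α)) := by
    have h10 := le_normalizer.trans (normalizer_le_normalizer_dSub X)
    obtain ⟨P, c, d, e⟩ := hex _ h7 X hX.isPGroup (le_inf h10 hXD) htX
    obtain rfl := eq_of_le_of_card_le e (hmax P ⟨_, h8, h5, h7,
      ⟨a, ⟨h6 a ha.1 hai ha.2, ha.2⟩, b, ⟨h6 b hb.1 hbi hb.2, hb.2⟩, hai, hbi, hab⟩, c, d⟩)
    exact sylow_of_normalizer (c.mono (le_inf hXD le_normalizer)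
      (le_inf (inf_le_right.trans (normalizer_le_normalizer_dSub X)) inf_le_left))
  have h10 : piCoreOf {p}ᶜ (st2 G α (t • α)) ≤ centralizer {t} := by
    refine h.piCore_cent h1 (h.le_st2 hMα) (norm_st2 h.inv α) hD ?_
    rw [← h.cm_T hne hMα]
    exact cm_mono (le_inf (piCoreOf_le _) ((piCore_le_cent_pCore _).trans
      ((centralizer_le (h.pCore_le C.S p hne hMα)).trans (C.b_cent h hN hM ht hδ h2 hp)))) t
  refine hβ (smul_left_cancel t (C.le_stab_of_inv h8 (γ := t • α) (fun u hu e => ?_) h7))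
  obtain ⟨s, -, hs, rfl, e1, e2⟩ := C.S.exists_swap_mem hai hu ha.2 e hβ.symm (mem_top _)
    (mem_top _)
  have h11 : s ∈ normalizer (dSub X : Set G) := by
    refine mem_norm_dSub hp2 (FT.feit_thompson hD) (abTwo_of_odd hD) h9 hs
      (mem_normalizer_st2 e1 e2) (odd_of_le hD (piCoreOf_le _)) ?_
    obtain ⟨d, -, hd, rfl⟩ := C.S.exists_conj_swap hβ.symm h.inv hs rfl e1 (mem_top _)
    exact le_cent_conj (le_normalizer_piCoreOf _ hd) h10
  exact mul_mem (mul_mem h11 (h6 a ha.1 hai ha.2)) (inv_mem h11)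

theorem b_false : False := by
  obtain ⟨p, hp, hp2, h1⟩ := h.exists_prime
  have : Fact p.Prime := ⟨hp⟩
  refine C.b_two h hN hM ht hδ h2 hp2 h1 fun ℓ _ e => ?_
  by_contra h3
  exact C.b_one h hN hM ht hδ h2 e h3 h1

end B

end Cx

end CfsgLib.SEG
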