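import Cfsg.Agent.Lib.SEG.I1

/-! Project SEG: an involution centralizes the invariant three point stabilizers, part 2. -/

set_option autoImplicit false

namespace CfsgLib.SEG

open Subgroup MulAction Cfsg CfsgLib.Cop CfsgLib.H1 CfsgLib.SE
open scoped commutatorElement

variable {G Ω : Type*} [Group G] [MulAction G Ω]

theorem exists_block [Finite G] (S : SEA G Ω) {N : Subgroup G} {t : G} {δ : Ω} (hi : IsInv t)
    (hδ : t • δ = δ) (ht : t ∈ N) (h1 : ¬ N ≤ stabilizer G δ) (h2 : ¬ Rk2 N) :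
    ∃ y ∈ piCoreOf {2}ᶜ N, t * y * t⁻¹ = y⁻¹ ∧ y • δ ≠ δ ∧ ∃ C : Subgroup G,
      t ∈ normalizer (C : Set G) ∧ y ∈ normalizer (C : Set G) ∧
      cm (piCoreOf {2}ᶜ N ⊓ stabilizer G δ) t ≤ C ∧ C ≤ piCoreOf {2}ᶜ N ⊓ stabilizer G δ := by
  have hO := odd_piCoreOf N
  have h3 : ¬ piCoreOf {2}ᶜ N ≤ stabilizer G δ := fun e => h1 fun n hn => by
    have := (stabilizer G δ).mul_mem (e (zstar_of_not_rk2 h2 hi ht hn)) hδ
    rw [inv_mul_cancel_right] at this
    exact S.fix_of_conj hi hδ this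
  obtain ⟨Y, C, a, b, c, d, e, f, g⟩ := exists_step_S hi hO (le_normalizer_piCoreOf N ht)
    (norm_inf (le_normalizer_piCoreOf N ht) (le_normalizer hδ))
    (inf_le_inf_left _ (S.cent_le hi hδ))
    (lt_of_le_of_ne inf_le_left fun e => h3 (inf_eq_left.1 e))
  by_contra h4
  refine a.not_ge (le_inf b (le_of_cent_of_inverted hi (odd_of_le hO b) c
    (inf_le_right.trans (S.cent_le hi hδ)) fun y hy e1 => ?_))
  by_contra h5
  exact h4 ⟨y, b hy, e1, h5, C, d, g hy, e, f⟩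

/-- the orbit of `δ` under `y` has prime length, is reflected by `t` and fixed by `M` -/
structure Line (M : Subgroup G) (t : G) (δ : Ω) (y : G) (r : ℕ) : Prop where
  prime : r.Prime
  inv : t * y * t⁻¹ = y⁻¹
  odd : Odd (orderOf y)
  per : ∀ i : ℤ, y ^ i • δ = δ ↔ (r : ℤ) ∣ i
  le : ∀ i : ℤ, M ≤ stabilizer G (y ^ i • δ)

/-- the pointwise stabilizer of the orbit of `δ` under `y` -/
abbrev Lk (y : G) (δ : Ω) : Subgroup G := ⨅ i : ℤ, stabilizer G (y ^ i • δ)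

theorem zpow_mem_normalizer_Lk [Finite G] (y : G) (δ : Ω) : y ∈ normalizer (Lk y δ : Set G) :=
  mem_normalizer_of_conj_mem fun x hx => mem_iInf.2 fun i => by
    have := conj_smul_eq (g := y) (mem_iInf.1 hx (i - 1))
    rwa [← mul_smul y, ← zpow_one_add, add_sub_cancel] at this

namespace Line

variable {M : Subgroup G} {t : G} {δ : Ω} {y : G} {r : ℕ} (L : Line M t δ y r)
include L

theorem refl (h : t • δ = δ) (i : ℤ) : t • y ^ i • δ = y ^ (-i) • δ := by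
  have := Invol.inverts_of_mem_zpowers L.inv (zpow_mem_zpowers y i)
  rw [zpow_neg, ← this, mul_smul, mul_smul, show t⁻¹ • δ = δ from inv_smul_eq_iff.2 h.symm]

theorem ne : y ^ (1 : ℤ) • δ ≠ δ := fun e =>
  L.prime.ne_one (by exact_mod_cast Int.eq_one_of_dvd_one (by positivity) ((L.per 1).1 e))

theorem norm [Finite G] (h : t • δ = δ) : t ∈ normalizer (Lk y δ : Set G) :=
  mem_normalizer_of_conj_mem fun x hx => mem_iInf.2 fun i => by
    have := conj_smul_eq (g := t) (mem_iInf.1 hx (-i))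
    rwa [L.refl h, neg_neg] at this

theorem le_Lk : M ≤ Lk y δ := le_iInf L.le

end Line

theorem Lk_le' (y : G) (δ : Ω) (i : ℤ) : Lk y δ ≤ stabilizer G (y ^ i • δ) :=
  iInf_le (fun i : ℤ => stabilizer G (y ^ i • δ)) i

theorem Lk_le (y : G) (δ : Ω) : Lk y δ ≤ stabilizer G δ := by simpa using Lk_le' y δ 0

namespace Cx

variable [Finite G] (C : Cx G Ω) {M : Subgroup G} {t : G} {δ : Ω} (h : Sit M t δ)
include C h

theorem not_rk2 {N : Subgroup G} (hN : N ≠ ⊤) (hM : M ≤ N) (ht : t ∈ N)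
    (hδ : ¬ N ≤ stabilizer G δ) : ¬ Rk2 N := fun h2 => C.b_false h hN hM ht hδ h2

theorem a_block {N : Subgroup G} (hN : N ≠ ⊤) (hM : M ≤ N) (ht : t ∈ N)
    (hδ : ¬ N ≤ stabilizer G δ) : (∀ g ∈ N, g • δ = δ → g * t * g⁻¹ * t⁻¹ ∈ M) ∧
      ∃ y ∈ N, ∃ r, Line M t δ y r := by
  have h2 := C.not_rk2 h hN hM ht hδ
  obtain ⟨y, hy, e, h3, X, h4, h5, h6, h7⟩ := exists_block C.S h.inv h.fix ht hδ h2
  have hO := odd_piCoreOf N
  have h8 : M ≤ X := (h.eq.ge.trans (cm_mono (le_inf (h.le_iff.2 fun x hx =>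
    zstar_of_not_rk2 h2 h.inv ht (hM hx)) h.le) t)).trans h6
  have h9 := h7.trans inf_le_right
  have h10 := h.cm_eq h3 h8 h9 (le_stab_smul h5 h9) h4
  have h11 : cm (piCoreOf {2}ᶜ N ⊓ stabilizer G δ) t ≤ M := by
    rw [← cm_cm h.inv (odd_of_le hO inf_le_left)
      (norm_inf (le_normalizer_piCoreOf N ht) (le_normalizer h.fix)), ← h10]
    exact cm_mono h6 t
  refine ⟨fun g hg e1 => ?_, ?_⟩
  · have h12 := zstar_of_not_rk2 h2 h.inv ht hg
    refine h11 (mem_cm_of_inverts ⟨h12, (stabilizer G δ).mul_mem (mul_mem (mul_mem e1 h.fix)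
      (inv_mem e1)) (inv_mem h.fix)⟩ (odd_orderOf_of_mem hO h12) ?_)
    simp only [h.inv.inv_eq, mul_inv_rev, inv_inv, mul_assoc, h.inv.1, mul_one]
  have hp : period y δ ≠ 1 := fun e => h3 (period_eq_one_iff.1 e)
  have h0 := period_pos_of_orderOf_pos (orderOf_pos y) δ
  obtain ⟨k, hk⟩ := Nat.minFac_dvd (period y δ)
  have hk0 : (k : ℤ) ≠ 0 := by
    rintro e
    rw [Nat.cast_eq_zero.1 e, mul_zero] at hk
    exact h0.ne' hk
  refine ⟨y ^ k, pow_mem (piCoreOf_le N hy) k, _, Nat.minFac_prime hp,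
    Invol.inverts_of_mem_zpowers e (npow_mem_zpowers y k),
    odd_orderOf_of_mem hO (pow_mem hy k), fun i => ?_,
    fun i => h8.trans (le_stab_smul (zpow_mem (pow_mem h5 k) i) h9)⟩
  rw [← zpow_natCast, ← zpow_mul, zpow_smul_eq_iff_period_dvd]
  nth_rw 1 [hk]
  rw [Nat.cast_mul, mul_comm, mul_dvd_mul_iff_left hk0]

variable {y : G} {r : ℕ} (L : Line M t δ y r)
include L

theorem a_fix {N : Subgroup G} (hN : N ≠ ⊤) (hM : M ≤ N) (ht : t ∈ N) (hy : y ∈ N) {i j : ℤ}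
    (hij : y ^ i • δ ≠ y ^ j • δ) : N ⊓ st2 G (y ^ i • δ) (y ^ j • δ) ≤ Lk y δ := by
  rintro g ⟨hg, h1, h2⟩
  have h3 := (C.a_block h hN hM ht fun e => L.ne (e (zpow_mem hy 1))).1
  have step : ∀ a b : ℤ, g • y ^ a • δ = y ^ a • δ → g • y ^ b • δ = y ^ b • δ →
      g • y ^ (2 * a - b) • δ = y ^ (2 * a - b) • δ := fun a b e1 e2 => by
    have h4 := h3 ((y ^ a)⁻¹ * g * y ^ a) (mul_mem (mul_mem (inv_mem (zpow_mem hy a)) hg)
      (zpow_mem hy a)) (by rw [mul_smul, mul_smul, e1, inv_smul_smul])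
    have h5 : ((y ^ a)⁻¹ * g * y ^ a) • y ^ (b - a) • δ = y ^ (b - a) • δ := by
      rw [mul_smul, mul_smul, ← mul_smul (y ^ a), ← zpow_add, add_sub_cancel, e2, ← mul_smul,
        ← zpow_neg, ← zpow_add, neg_add_eq_sub]
    have h6 : _ • y ^ (-(b - a)) • δ = _ := L.le (-(b - a)) h4
    rw [← L.refl h.fix, mul_smul, inv_smul_smul, mul_smul,
      inv_smul_eq_iff.2 h5.symm, mul_smul, L.refl h.fix, mul_smul, mul_smul, inv_smul_eq_iff,
      ← mul_smul (y ^ a), ← zpow_add] at h6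
    rwa [show 2 * a - b = a + -(b - a) by ring]
  have key : ∀ n : ℤ, g • y ^ (i + n * (j - i)) • δ = y ^ (i + n * (j - i)) • δ ∧
      g • y ^ (i + (n + 1) * (j - i)) • δ = y ^ (i + (n + 1) * (j - i)) • δ := by
    intro n
    induction n using Int.induction_on with
    | zero => exact ⟨by simpa using h1, by simpa using h2⟩
    | succ n ih =>
      refine ⟨ih.2, ?_⟩
      have := step _ _ ih.2 ih.1
      rwa [show 2 * (i + (n + 1) * (j - i)) - (i + n * (j - i)) = i + (n + 1 + 1) * (j - i) by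
        ring] at this
    | pred n ih =>
      refine ⟨?_, by simpa using ih.1⟩
      have := step _ _ ih.1 ih.2
      rwa [show 2 * (i + -n * (j - i)) - (i + (-n + 1) * (j - i)) = i + (-n - 1) * (j - i) by
        ring] at this
  have h4 : ¬ (r : ℤ) ∣ j - i := fun e => hij (by
    rw [← (L.per _).2 e, ← mul_smul, ← zpow_add, add_sub_cancel, (L.per _).2 e])
  obtain ⟨u, v, e⟩ := (Nat.prime_iff_prime_int.1 L.prime).irreducible.coprime_iff_not_dvd.2 h4
  refine mem_iInf.2 fun k => ?_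
  have h5 := (key (v * (k - i))).1
  rwa [show i + v * (k - i) * (j - i) = k + -(r * (u * (k - i))) by
    linear_combination (k - i) * e, zpow_add, mul_smul,
    (L.per _).2 (dvd_neg.2 (dvd_mul_right _ _))] at h5

omit h in
theorem odd_Lk : Odd (Nat.card (Lk y δ)) :=
  C.S.odd_of_le L.ne (Lk_le' y δ 1) (Lk_le y δ)

omit C in
theorem a_cm : cm (Lk y δ) t = M :=
  h.cm_eq L.ne L.le_Lk (Lk_le y δ) (Lk_le' y δ 1) (L.norm h.fix)

theorem a_pCore {s : ℕ} [Fact s.Prime] (hs : pCoreOf s M ≠ ⊥) {i j : ℤ}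
    (hij : y ^ i • δ ≠ y ^ j • δ) : pCoreOf s (st2 G (y ^ i • δ) (y ^ j • δ)) ≤ Lk y δ := by
  refine (pCore_le_of_norm (le_inf (Lk_le' y δ i) (Lk_le' y δ j)) ?_).trans (pCoreOf_le _)
  rw [inf_comm]
  refine C.a_fix h L (C.norm_ne_top (odd_of_le (C.odd_Lk L) (pCoreOf_le _)) fun e => hs ?_)
    (L.le_Lk.trans (le_normalizer_pCoreOf _)) (normalizer_le_normalizer_pCoreOf _ (L.norm h.fix))
    (normalizer_le_normalizer_pCoreOf _ (zpow_mem_normalizer_Lk y δ)) hij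
  exact eq_bot_iff.2 ((pCoreOf_le_of_le_normalizer L.le_Lk
    (a_cm h L ▸ le_normalizer_cm _ t)).trans e.le)

variable {p : ℕ} [Fact p.Prime] (hp : pCoreOf p M ≠ ⊥)
  (hy : y ∈ normalizer (pCoreOf p M : Set G) ∨ normalizer (pCoreOf p M : Set G) ≤ stabilizer G δ)
include hp hy

theorem a_cent {d : ℤ} (hd : y ^ d • δ ≠ δ) :
    st2 G (y ^ d • δ) (t • y ^ d • δ) ⊓
      centralizer (pCoreOf p (st2 G (y ^ d • δ) (t • y ^ d • δ)) : Set G) ≤ stabilizer G δ := by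
  have h1 := (centralizer_le (h.pCore_le C.S p hd (L.le d))).trans (centralizer_le_normalizer _)
  rcases hy with hy | hy
  · have h2 := (C.S.smul_ne h.inv h.fix hd).symm
    rw [L.refl h.fix] at h2 h1 ⊢
    refine le_trans ?_ ((C.a_fix h L (C.norm_ne_top (odd_of_le h.odd (pCoreOf_le _)) hp)
      (le_normalizer_pCoreOf _) (normalizer_le_normalizer_pCoreOf _ h.norm) hy h2).trans
      (Lk_le y δ))
    exact le_inf (inf_le_right.trans h1) inf_le_left
  · exact inf_le_right.trans (h1.trans hy)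

theorem a_one {ℓ : ℕ} [Fact ℓ.Prime] (hne : ℓ ≠ p) (hl : pCoreOf ℓ M ≠ ⊥) : False := by
  have := C.S.finite
  obtain ⟨γ, ⟨hd, d, rfl⟩, hmax⟩ := Set.exists_max_image {γ : Ω | γ ≠ δ ∧ ∃ i : ℤ, y ^ i • δ = γ}
    (fun γ => Nat.card (pCoreOf ℓ (st2 G δ γ))) (Set.toFinite _) ⟨_, L.ne, 1, rfl⟩
  have h1 := (C.S.smul_ne h.inv h.fix hd).symm
  have h2 : pCoreOf ℓ (st2 G (y ^ d • δ) (t • y ^ d • δ) ⊓ stabilizer G δ) =
      pCoreOf ℓ (st2 G (y ^ d • δ) (t • y ^ d • δ)) := by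
    refine pCore_eq_of_cent hne (le_inf (pCoreOf_le _) ?_) inf_le_left
      (le_inf inf_le_left (C.a_cent h L hp hy hd))
    rw [L.refl h.fix] at h1 ⊢
    exact (C.a_pCore h L hp h1).trans (Lk_le y δ)
  have h3 : pCoreOf ℓ (st2 G δ (y ^ d • δ)) ≤ Lk y δ := by
    simpa using C.a_pCore h L hl (i := 0) (j := d) (by simpa using hd.symm)
  refine C.false_of_eq h.inv h.fix hd hd (ℓ := ℓ) (eq_of_le_of_card_le ?_ ?_) fun e =>
    hl (eq_bot_iff.2 ((h.pCore_le C.S ℓ hd (L.le d)).trans e.le))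
  · rw [← h2]
    refine pCoreOf_le_pCoreOf (le_inf inf_le_right (inf_le_left.trans inf_le_left))
      (h3.trans (le_inf (le_inf (Lk_le' y δ d) ?_) (Lk_le y δ)))
    rw [L.refl h.fix]; exact Lk_le' y δ (-d)
  · have h4 : t • y ^ d • δ = y ^ d • y ^ (-d + -d) • δ := by
      rw [L.refl h.fix, ← mul_smul, ← zpow_add, add_neg_cancel_left]
    rw [h4] at h1 ⊢
    rw [st2_smul, pCoreOf_map_conj, card_map_conj]
    exact hmax _ ⟨fun e => h1 (by rw [e]), _, rfl⟩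

theorem a_two (h1 : ∀ (ℓ : ℕ) [Fact ℓ.Prime], ℓ ≠ p → pCoreOf ℓ M ≤ centralizer {t}) : False := by
  have hW := C.odd_Lk L
  have hp2 : p ≠ 2 := by
    rintro rfl
    exact hp (H5.eq_bot_of_isPGroup_of_coprime (pCoreOf_isPGroup (p := 2) M)
      (Nat.coprime_two_right.2 (odd_of_le h.odd (pCoreOf_le _))))
  obtain ⟨U, hU⟩ := IsSylowIn.exists_in (p := p) (Lk y δ)
  have h2 := h.piCore_cent h1 L.le_Lk (L.norm h.fix) hW
    ((cm_mono (piCoreOf_le _) t).trans (a_cm h L).le)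
  have h3 : ∀ g ∈ normalizer (Lk y δ : Set G), g * t * g⁻¹ ∈ normalizer (dSub U : Set G) :=
    fun g hg => mem_norm_dSub hp2 (FT.feit_thompson hW) (abTwo_of_odd hW) hU (h.inv.conj g)
      (mul_mem (mul_mem hg (L.norm h.fix)) (inv_mem hg)) (odd_of_le hW (piCoreOf_le _))
      (le_cent_conj (normalizer_le_normalizer_piCoreOf _ hg) h2)
  have h4 : t ∈ normalizer (dSub U : Set G) := by simpa using h3 1 (one_mem _)
  have h5 : y ∈ normalizer (dSub U : Set G) := by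
    refine mem_of_sq_mem L.odd ?_
    have := mul_mem (h3 y (zpow_mem_normalizer_Lk y δ)) (inv_mem h4)
    have h6 : t * y⁻¹ * t⁻¹ = y := by rw [← conj_inv, L.inv, inv_inv]
    rwa [mul_assoc, mul_assoc, ← mul_assoc t, h6] at this
  have hU0 : U ≠ ⊥ := fun e => hp (by
    have := hU.card_le (pCoreOf_isPGroup (p := p) M) ((pCoreOf_le M).trans L.le_Lk)
    rwa [e, card_bot, Subgroup.card_le_one_iff_eq_bot] at this)
  have h6 := (C.S.smul_ne h.inv h.fix L.ne).symm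
  have hD := C.S.odd_st2 h6
  have h7 : normalizer (dSub U : Set G) ⊓ st2 G (y ^ (1 : ℤ) • δ) (t • y ^ (1 : ℤ) • δ) ≤
      Lk y δ := by
    rw [L.refl h.fix] at h6 ⊢
    exact C.a_fix h L (C.norm_ne_top (odd_of_le hW ((dSub_le U).trans hU.le))
      (dSub_ne_bot hU.isPGroup hU0)) (h.le_iff.2 fun x hx =>
        mul_mem (h3 x (le_normalizer (L.le_Lk hx))) (inv_mem h4)) h4 h5 h6
  have h8 : IsSylowIn p U (st2 G (y ^ (1 : ℤ) • δ) (t • y ^ (1 : ℤ) • δ)) := by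
    refine sylow_of_normalizer (hU.mono (le_inf (hU.le.trans (le_inf (Lk_le' y δ 1) ?_))
      le_normalizer) (le_trans (le_inf (inf_le_right.trans (normalizer_le_normalizer_dSub U))
        inf_le_left) h7))
    rw [L.refl h.fix]; exact Lk_le' y δ (-1)
  refine C.not_le h.inv h.fix L.ne ((fact hp2 (FT.feit_thompson hD) (abTwo_of_odd hD) h8).trans
    (sup_le ?_ ((inf_comm _ _).le.trans (h7.trans (Lk_le y δ)))))
  exact (le_inf (piCoreOf_le _) (piCore_le_cent_pCore _)).trans (C.a_cent h L hp hy L.ne)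

omit L hp hy in
theorem not_sit {γ : Ω} (hne : γ ≠ δ) (h1 : M ≤ stabilizer G γ) : False := by
  obtain ⟨p, hp, -, h2⟩ := h.exists_prime
  have : Fact p.Prime := ⟨hp⟩
  have h3 : pCoreOf p M ≠ ⊥ := fun e => h2 (e.le.trans bot_le)
  obtain ⟨y, r, L, hy⟩ : ∃ y r, Line M t δ y r ∧ (y ∈ normalizer (pCoreOf p M : Set G) ∨
      normalizer (pCoreOf p M : Set G) ≤ stabilizer G δ) := by
    by_cases e : normalizer (pCoreOf p M : Set G) ≤ stabilizer G δ
    · obtain ⟨y, -, r, L⟩ := (C.a_block h (C.norm_ne_top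
        (C.S.odd_st2 (C.S.smul_ne h.inv h.fix hne).symm) fun e =>
          h.ne (eq_bot_iff.2 ((h.le_st2 h1).trans e.le))) ((h.le_st2 h1).trans le_normalizer)
        (norm_st2 h.inv γ) fun e => C.not_le h.inv h.fix hne (le_normalizer.trans e)).2
      exact ⟨y, r, L, Or.inr e⟩
    · obtain ⟨y, hy, r, L⟩ := (C.a_block h (C.norm_ne_top (odd_of_le h.odd (pCoreOf_le _)) h3)
        (le_normalizer_pCoreOf _) (normalizer_le_normalizer_pCoreOf _ h.norm) e).2
      exact ⟨y, r, L, Or.inl hy⟩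
  refine C.a_two h L h3 hy fun ℓ _ e => ?_
  by_contra h4
  exact C.a_one h L h3 hy e fun e => h4 (e.le.trans bot_le)

end Cx

/-- no involution inverts a nontrivial element fixing its fixed point and another point -/
def Ic (G Ω : Type*) [Group G] [MulAction G Ω] : Prop :=
  ∀ (t y : G) (δ γ : Ω), IsInv t → t • δ = δ → γ ≠ δ → y • δ = δ → y • γ = γ →
    t * y * t⁻¹ = y⁻¹ → y = 1

theorem Cx.ic [Finite G] (C : Cx G Ω) : Ic G Ω := by
  intro t y δ γ ht h1 h2 h3 h4 h5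
  obtain ⟨M, ⟨s, ε, β, a, b, c, rfl⟩, hmax⟩ := Set.exists_max_image
    {M : Subgroup G | ∃ (s : G) (ε β : Ω), IsInv s ∧ s • ε = ε ∧ β ≠ ε ∧
      M = cm (st2 G β (s • β) ⊓ stabilizer G ε) s}
    (fun M => Nat.card M) (Set.toFinite _) ⟨_, t, δ, γ, ht, h1, h2, rfl⟩
  have hn := norm_inf (norm_st2 a β) (le_normalizer b : s ∈ normalizer (stabilizer G ε : Set G))
  have ho := odd_of_le (C.S.odd_st2 (C.S.smul_ne a b c).symm)
    (inf_le_left : _ ⊓ stabilizer G ε ≤ _)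
  by_contra h6
  refine C.not_sit (t := s) (δ := ε) ⟨a, b, cm_cm a ho hn, (cm_le hn).trans inf_le_right,
    odd_of_le ho (cm_le hn), fun e => h6 ?_, fun s' ε' β' a' b' c' =>
      hmax _ ⟨s', ε', β', a', b', c', rfl⟩⟩ c ((cm_le hn).trans (inf_le_left.trans inf_le_left))
  have h7 := hmax _ ⟨t, δ, γ, ht, h1, h2, rfl⟩
  simp only [e, card_bot, Subgroup.card_le_one_iff_eq_bot] at h7
  have h8 : y ∈ st2 G γ (t • γ) ⊓ stabilizer G δ := by
    refine ⟨⟨h4, ?_⟩, h3⟩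
    have := conj_smul_eq (g := t) h4
    rw [h5] at this
    exact (stabilizer G (t • γ)).inv_mem_iff.1 this
  exact mem_bot.1 (h7 ▸ mem_cm_of_inverts h8 (C.S.odd_orderOf h2 h4 h3) h5)

end CfsgLib.SEG
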