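import Cfsg.Agent.Lib.SEG.Tr

/-! Project SEG: the inverted elements of the two point stabilizer form an abelian group. -/

set_option autoImplicit false

namespace CfsgLib.SEG

open Subgroup MulAction Cfsg CfsgLib.Cop CfsgLib.H1 CfsgLib.SE
open scoped commutatorElement
open GW (Inverts)

variable {G Ω : Type*} [Group G] [MulAction G Ω]

theorem zpowers_eq_of_prime [Finite G] {z b : G} {p : ℕ} (hp : p.Prime) (hz : orderOf z = p)
    (hb : b ∈ zpowers z) (h1 : b ≠ 1) : zpowers b = zpowers z := by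
  refine eq_of_le_of_card_le (zpowers_le_of_mem hb) ?_
  have h2 : orderOf b ∣ p := hz ▸ orderOf_dvd_of_mem_zpowers hb
  rw [Nat.card_zpowers, Nat.card_zpowers, hz, ((Nat.dvd_prime hp).1 h2).resolve_left
    (by simpa using h1)]

theorem comm_of_mem_zpowers_prime [Finite G] {z b x : G} {p : ℕ} (hp : p.Prime)
    (hz : orderOf z = p) (hb : b ∈ zpowers z) (h1 : b ≠ 1) (e : x * b = b * x) :
    x * z = z * x := by
  have h2 := zpowers_eq_of_prime hp hz hb h1
  exact (mem_centralizer_singleton_iff.1 (zpowers_le_of_mem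
    (mem_centralizer_singleton_iff.2 e.symm) (h2 ▸ mem_zpowers z))).symm

theorem mem_of_fiber [Finite G] {D N : Subgroup G} {t z : G} {p : ℕ} (hp : p.Prime)
    (hD : Odd (Nat.card D)) (h1 : N ≤ D) (h2 : D ≤ normalizer (N : Set G)) (hz : orderOf z = p)
    (hzN : z ∈ N) (hzt : z * t = t * z)
    (h3 : ∀ k ∈ D, t * k * t⁻¹ = k⁻¹ → k * z = z * k → k = 1) {k : G} (hk : k ∈ D)
    (e : t * k * t⁻¹ = k⁻¹) : k ∈ N := by
  by_contra hkN
  have hinv : ∀ b ∈ zpowers z, ∀ x, t * x * t⁻¹ = x⁻¹ → t * (b * x * b⁻¹) * t⁻¹ = (b * x * b⁻¹)⁻¹ :=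
    fun b hb x hx => by
      have h4 : b * t = t * b :=
        mem_centralizer_singleton_iff.1 (zpowers_le_of_mem (mem_centralizer_singleton_iff.2 hzt) hb)
      calc t * (b * x * b⁻¹) * t⁻¹ = (t * b) * x * (t * b)⁻¹ := by group
        _ = b * (t * x * t⁻¹) * b⁻¹ := by rw [← h4]; group
        _ = _ := by rw [hx]; group
  have hfree : ∀ b ∈ zpowers z, ∀ x ∈ D, t * x * t⁻¹ = x⁻¹ → x ≠ 1 → b * x * b⁻¹ = x → b = 1 :=
    fun b hb x hx e1 e2 e3 => by
      by_contra h4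
      exact e2 (h3 x hx e1 (comm_of_mem_zpowers_prime hp hz hb h4
        (mul_inv_eq_iff_eq_mul.1 e3).symm))
  have hb := zpowers_le_of_mem hzN
  have d1 := card_dvd_ncard_of_free_conj (B := zpowers z)
    {n | n ∈ N ∧ t * n * t⁻¹ = n⁻¹ ∧ n ≠ 1}
    (fun b a x hx => ⟨mul_mem (mul_mem (hb a) hx.1) (inv_mem (hb a)), hinv b a x hx.2.1,
      fun e => hx.2.2 (by simpa using e)⟩) fun b a x hx => hfree b a x (h1 hx.1) hx.2.1 hx.2.2
  have d2 := card_dvd_ncard_of_free_conj (B := zpowers z)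
    {x | x ∈ D ∧ t * x * t⁻¹ = x⁻¹ ∧ k⁻¹ * x ∈ N}
    (fun b a x hx => ⟨mul_mem (mul_mem (h1 (hb a)) hx.1) (inv_mem (h1 (hb a))), hinv b a x hx.2.1,
      by simpa [mul_assoc] using N.mul_mem (N.mul_mem (conj_mem_of_mem_normalizer' (h2 hk) (hb a))
          hx.2.2) (N.inv_mem (hb a))⟩)
    fun b a x hx => hfree b a x hx.1 hx.2.1 fun e => hkN (by simpa [e] using hx.2.2)
  obtain ⟨s, hs, rfl⟩ : ∃ s ∈ zpowers k, s * s = k := by
    obtain ⟨n, hn⟩ := odd_orderOf_of_mem hD hk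
    refine ⟨k ^ (n + 1), npow_mem_zpowers k _, ?_⟩
    rw [← pow_add, show n + 1 + (n + 1) = 2 * n + 1 + 1 by ring, ← hn, pow_succ,
      pow_orderOf_eq_one, one_mul]
  have hsD := zpowers_le_of_mem hk hs
  have hsi := Invol.inverts_of_mem_zpowers e hs
  have d3 : {x | x ∈ D ∧ t * x * t⁻¹ = x⁻¹ ∧ (s * s)⁻¹ * x ∈ N}.ncard =
      {n | n ∈ N ∧ t * n * t⁻¹ = n⁻¹ ∧ n ≠ 1}.ncard + 1 := by
    rw [← Set.ncard_insert_of_notMem (a := (1 : G)) (by simp)]
    refine (Set.ncard_congr (fun n _ => s * n * s) ?_ (fun a b _ _ e => by simpa using e) ?_).symm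
    · rintro n (rfl | hn)
      · exact ⟨by simpa using hk, by simpa using e, by simp⟩
      · refine ⟨mul_mem (mul_mem hsD (h1 hn.1)) hsD, ?_, ?_⟩
        · rw [← conj_mul, ← conj_mul, hsi, hn.2.1]; group
        · simpa [mul_assoc] using conj_mem_of_mem_normalizer' (h2 hsD) hn.1
    · intro x hx
      refine ⟨s⁻¹ * x * s⁻¹, ?_, by group⟩
      by_cases e1 : s⁻¹ * x * s⁻¹ = 1
      · exact Or.inl e1
      refine Or.inr ⟨by simpa [mul_assoc] using conj_mem_of_mem_normalizer (h2 hsD) hx.2.2, ?_, e1⟩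
      rw [← conj_mul, ← conj_mul, ← conj_inv, hsi, hx.2.1]; group
  rw [d3, Nat.dvd_add_right d1, Nat.card_zpowers, hz, Nat.dvd_one] at d2
  exact hp.ne_one d2

theorem relIndex_cent_le [Finite G] {Y Z : Subgroup G} {x : G} (h : ∀ y ∈ Y, ⁅y, x⁆ ∈ Z) :
    (centralizer {x}).relIndex Y ≤ Nat.card Z := by
  rw [← Frob.ncard_conj_subgroup, ← SetLike.coe_sort_coe Z, Nat.card_coe_set_eq,
    ← Set.ncard_image_of_injective (Z : Set G) (mul_left_injective x)]
  refine Set.ncard_le_ncard ?_ (Set.toFinite _)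
  rintro _ ⟨y, hy, rfl⟩
  exact ⟨⁅y, x⁆, h y hy, by simp [commutatorElement_def]⟩

theorem comm_lt_of_rank2 [Finite G] {ℓ : ℕ} [Fact ℓ.Prime] (h2 : ℓ ≠ 2) {R D : Subgroup G}
    (hR : IsPGroup ℓ R) (h0 : R ≠ ⊥) (hr : PRankLE ℓ 2 R) (hD : D ≤ normalizer (R : Set G))
    (ho : Odd (Nat.card D)) : ⁅R, ⁅D, D⁆⁆ < R := by
  have h1 : ⁅D, D⁆ ≤ normalizer (R : Set G) :=
    (commutator_le_left_of_le_normalizer le_normalizer).trans hD
  obtain ⟨P, hP⟩ := IsSylowIn.exists_in (p := ℓ) ⁅D, D⁆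
  have h3 : ⁅D, D⁆ ≤ centralizer (R : Set G) ⊔ P := by
    refine le_of_forall_sylow_le fun q hq _ => ?_
    by_cases e : q = ℓ
    · subst e
      obtain ⟨Q, hQ⟩ := hP.exists_sylow_map
      exact ⟨Q, hQ.le.trans le_sup_right⟩
    obtain ⟨Q⟩ : Nonempty (Sylow q ↥⁅D, D⁆) := inferInstance
    have hQ := IsSylowIn.of_sylow_subgroup Q
    refine ⟨Q, le_sup_of_le_left fun x hx => FT.der1_cent_rank2_pgroup h2 hR hr hD
      (FT.feit_thompson ho) ho (hQ.le hx) ?_⟩
    obtain ⟨k, hk⟩ := orderOf_eq_pow_of_mem_isPGroup hQ.isPGroup hx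
    rw [hk]
    exact ((Nat.coprime_primes hq.out Fact.out).2 e).pow_left k
  have h4 := hP.le.trans h1
  refine lt_of_le_of_lt ((commutator_mono le_rfl h3).trans (CommCalc.commutator_sup_right_le
    (N := ⁅R, P ⊔ R⁆) ?_ (le_sup_left.trans (normalizer_commutator_ge_right _ _)) ?_
    (commutator_mono le_rfl le_sup_left))) (FT.commutator_lt_of_isPGroup
      (isPGroup_sup_of_le_normalizer hP.isPGroup hR h4) le_sup_right (sup_le h4 le_normalizer) h0)
  · exact (centralizer_le (commutator_le_left_of_le_normalizer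
      (sup_le h4 le_normalizer))).trans (centralizer_le_normalizer _)
  · rw [commutator_eq_bot_iff_le_centralizer'.2 le_rfl]; exact bot_le

namespace Cx

variable [Finite G] (C : Cx G Ω) {α β : Ω} (h : α ≠ β) {t : G} (ht : IsInv t) (h1 : t • α = β)
include C h ht h1

theorem inverts_of_le (hA : cm (st2 G α β) t ≤ ⁅st2 G α β, st2 G α β⁆) :
    Inverts t (cm (st2 G α β) t) := by
  have hD := C.S.odd_st2 h
  have htD : t ∈ normalizer (st2 G α β : Set G) := h1 ▸ norm_st2 ht α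
  refine GW.inverts_of_inf_cent ht.1 (odd_of_le hD (cm_le htD)) (mem_normalizer_cm _ t) ?_
  by_contra h0
  obtain ⟨R, ⟨hRA, hDR, htR, hR0⟩, hmin⟩ := exists_minimal_of_wellFoundedLT
    (fun R : Subgroup G => R ≤ cm (st2 G α β) t ∧ st2 G α β ≤ normalizer (R : Set G) ∧
      t ∈ normalizer (R : Set G) ∧ R ⊓ centralizer {t} ≠ ⊥)
    ⟨_, le_rfl, le_normalizer_cm _ t, mem_normalizer_cm _ t, h0⟩
  have hRD := hRA.trans (cm_le htD)
  have hRo := odd_of_le hD hRD
  set Z := R ⊓ centralizer (R : Set G) with hZ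
  have hprop : ∀ U < R, st2 G α β ≤ normalizer (U : Set G) → t ∈ normalizer (U : Set G) →
      U ≤ Z := fun U a b c => by
    refine le_inf a.le (le_centralizer_iff.1 (hRA.trans (GW.Inverts.commutator_le_cent ht.1
      (GW.inverts_of_inf_cent ht.1 (odd_of_le hRo a.le) c ?_) b)))
    by_contra e
    exact a.not_ge (hmin ⟨a.le.trans hRA, b, c, e⟩ a.le)
  have hnab : ¬ IsMulCommutative R := fun e =>
    hR0 ((C.inverts_of_comm h ht h1 e hRD hDR htR).inf_cent hRo)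
  have hR1 : R ≠ ⊥ := fun e => hR0 (by simp [e])
  have hRZ : ∀ x ∈ R, ∀ y ∈ R, ⁅x, y⁆ ∈ Z := fun x hx y hy =>
    hprop _ (FT.der_lt_of_solvable (FT.feit_thompson hRo) hR1) (le_normalizer_commutator hDR hDR)
      (le_normalizer_commutator (zpowers_le_of_mem htR) (zpowers_le_of_mem htR) (mem_zpowers t))
      (commutator_mem_commutator hx hy)
  have hZn : ∀ g ∈ normalizer (R : Set G), g ∈ normalizer (Z : Set G) := fun g hg =>
    norm_inf hg (normalizer_le_normalizer_centralizer R hg)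
  have hZi : Inverts t Z := C.inverts_of_comm h ht h1
    (H5.isMulCommutative_iff'.2 fun x hx y hy => hy.2 x hx.1) (inf_le_left.trans hRD)
    (fun g hg => hZn g (hDR hg)) (hZn t htR)
  have hZ0 : Z ≠ ⊥ := fun e => hnab (H5.isMulCommutative_iff'.2 fun x hx y hy =>
    commutatorElement_eq_one_iff_mul_comm.1 (mem_bot.1 (e ▸ hRZ x hx y hy)))
  obtain ⟨⟨x₁, hx₁⟩, hx₂⟩ := ne_bot_iff_exists_ne_one.1 hR0
  obtain ⟨ℓ, hl, x₀, hx₀, hx₀o⟩ := exists_prime_pow (x := x₁) fun e => hx₂ (Subtype.ext e)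
  replace hx₀ := zpowers_le_of_mem hx₁ hx₀
  have : Fact ℓ.Prime := ⟨hl⟩
  have hx₀1 : x₀ ≠ 1 := fun e => hl.ne_one (by rw [← hx₀o, e, orderOf_one])
  have hl2 : ℓ ≠ 2 := ne_two_of_odd (odd_orderOf_of_mem hRo hx₀.1) hx₀o.symm.dvd
  have hexp : ∀ x ∈ R, x ^ ℓ = 1 := by
    have h2 : R ≤ omegaOne ℓ R := hmin ⟨((closure_le _).2 fun _ a => a.1).trans hRA,
      hDR.trans (FT.normalizer_le_normalizer_omegaOne R), FT.normalizer_le_normalizer_omegaOne R htR,
      fun e => hx₀1 (mem_bot.1 (e ▸ ⟨FT.mem_omegaOne hx₀.1 (hx₀o ▸ pow_orderOf_eq_one x₀), hx₀.2⟩))⟩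
      ((closure_le _).2 fun _ a => a.1)
    refine fun x hx => FT.pow_eq_one_of_mem_omegaOne (fun x hx y hy a b => ?_) x (h2 hx)
    have c1 : Commute ⁅y, x⁆ x := ((hRZ y hy x hx).2 x hx).symm
    have c2 : Commute ⁅y, x⁆ y := ((hRZ y hy x hx).2 y hy).symm
    rw [PGrp.mul_pow_prime_eq_of_odd (hl.odd_of_ne_two hl2) c1 c2 (by
      rw [← PGrp.commutatorElement_pow_left c2, b, commutatorElement_one_left]), a, b, mul_one]
  have hRp : IsPGroup ℓ R := fun y => ⟨1, Subtype.ext (by simpa using hexp y y.2)⟩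
  have hkey : ∀ x ∈ R ⊓ centralizer {t}, x ≠ 1 → ∀ i ∈ R, t * i * t⁻¹ = i⁻¹ → x * i = i * x →
      i ∈ Z ∧ Nat.card Z ≤ ℓ := fun x hx hx1 i hi e1 e2 => by
    have a1 := hRp.to_le (zpowers_le_of_mem hx.1)
    have a2 := fix3_of_swap C.S h ht h1 (zpowers_le_of_mem (hRD hx.1)) (zpowers_le_of_mem hx.2)
    have a3 : zpowers x ≤ stabilizer G α := zpowers_le_of_mem (hRD hx.1).1
    obtain ⟨⟨b, hb⟩, hb1⟩ := ne_bot_iff_exists_ne_one.1 hZ0
    have a4 : Z ⊔ zpowers i ≤ centralizer (zpowers x : Set G) := by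
      rw [centralizer_zpowers]
      exact sup_le (fun y hy => mem_centralizer_singleton_iff.2 (hy.2 x hx.1).symm)
        (zpowers_le_of_mem (mem_centralizer_singleton_iff.2 e2.symm))
    have a5 : Z ⊔ zpowers i ≤ R := sup_le inf_le_left (zpowers_le_of_mem hi)
    have a6 : Inverts t (Z ⊔ zpowers i) := fun y hy => by
      obtain ⟨c, hc, j, hj, rfl⟩ := (mem_sup_iff_of_le_normalizer'
        (zpowers_le_of_mem (hZn i (le_normalizer hi)))).1 hy
      rw [← conj_mul, hZi c hc, Invol.inverts_of_mem_zpowers e1 hj, ← mul_inv_rev,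
        hc.2 j (zpowers_le_of_mem hi hj)]
    have a7 : ∀ y ∈ Z ⊔ zpowers i, Fp α y := fun y hy =>
      fp_of_inverts C.S h ht h1 (hRD (a5 hy)) (a6 y hy)
    have a8 := card_le_of_cyclic hl (C.cyclic_of_rk2 hl2 a1 a2 a3 (by simpa using hx1)
      (C.rk2_of_fp hl2 a1 a2 a3 (a4 (mem_sup_left hb)) (hRD hb.1).1 (fun e => hb1 (Subtype.ext e))
        (a7 b (mem_sup_left hb))) a6.isMulCommutative
      (le_inf (a5.trans (hRD.trans inf_le_left)) (a4.trans (centralizer_le_normalizer _))) a7)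
      fun y hy => hexp y (a5 hy)
    have a9 := eq_of_le_of_card_le (le_sup_left : Z ≤ Z ⊔ zpowers i)
      (a8.trans (le_card_of_ne_bot hZ0 fun y hy => hexp y hy.1))
    exact ⟨a9 ▸ mem_sup_right (mem_zpowers i), (card_le_of_le le_sup_left).trans a8⟩
  have hZc := (hkey x₀ hx₀ hx₀1 1 (one_mem _) (by simp) (by simp)).2
  have hVn : R ⊓ centralizer {t} ≤ normalizer (Z : Set G) := fun g hg => hZn g (le_normalizer hg.1)
  have hV : ∀ x ∈ R ⊓ centralizer {t}, ∀ y ∈ R ⊓ centralizer {t}, x * y = y * x :=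
    fun x hx y hy => commutatorElement_eq_one_iff_mul_comm.1 (mem_bot.1 (hZi.inf_cent
      (odd_of_le hRo inf_le_left) ▸ ⟨hRZ x hx.1 y hy.1, (centralizer {t}).mul_mem ((centralizer {t}).mul_mem
        ((centralizer {t}).mul_mem hx.2 hy.2) ((centralizer {t}).inv_mem hx.2))
        ((centralizer {t}).inv_mem hy.2)⟩))
  have hVZ : ¬ R ≤ R ⊓ centralizer {t} ⊔ Z := fun e =>
    hnab (H5.isMulCommutative_iff'.2 fun x hx y hy => by
      obtain ⟨a, ha, b, hb, rfl⟩ := (mem_sup_iff_of_le_normalizer hVn).1 (e hx)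
      obtain ⟨c, hc, d, hd, rfl⟩ := (mem_sup_iff_of_le_normalizer hVn).1 (e hy)
      rw [mul_assoc, ← hb.2 _ hy, ← mul_assoc, ← mul_assoc, hV a ha c hc, mul_assoc c a d,
        hd.2 a ha.1]
      simp only [mul_assoc])
  have hcard : Nat.card R ≤ ℓ ^ 3 := by
    obtain ⟨r, hr, hr1⟩ := SetLike.not_le_iff_exists.1 hVZ
    obtain ⟨c, hc, i, hi, e1, rfl⟩ := GW.exists_cent_mul_inv ht.1 hRo htR hr
    have a1 : Nat.card ↥(R ⊓ centralizer {t}) ≤ ℓ := by
      have a2 := SE.card_inf_mul_relIndex (centralizer {i}) (R ⊓ centralizer {t})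
      have a3 : R ⊓ centralizer {t} ⊓ centralizer {i} = ⊥ := eq_bot_iff.2 fun x hx => by
        by_contra e
        exact hr1 (mul_mem_sup hc (hkey x hx.1 e i hi e1
          (mem_centralizer_singleton_iff.1 hx.2)).1)
      rw [a3, card_bot, one_mul] at a2
      rw [← a2]
      exact (relIndex_cent_le (Y := R ⊓ centralizer {t}) fun y hy => hRZ y hy.1 i hi).trans hZc
    have a2 : R ⊓ centralizer {x₀} ≤ R ⊓ centralizer {t} ⊔ Z := fun y hy => by
      obtain ⟨c, hc, i, hi, e1, rfl⟩ := GW.exists_cent_mul_inv ht.1 hRo htR hy.1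
      refine mul_mem_sup hc (hkey x₀ hx₀ hx₀1 i hi e1 ?_).1
      have a3 := mem_centralizer_singleton_iff.1 hy.2
      rw [← mul_assoc, hV x₀ hx₀ c hc, mul_assoc, mul_assoc] at a3
      exact (mul_left_cancel a3).symm
    rw [← SE.card_inf_mul_relIndex (centralizer {x₀}) R, pow_succ, pow_two]
    exact Nat.mul_le_mul ((card_le_of_le a2).trans ((Nat.le_of_dvd
      (Nat.mul_pos Nat.card_pos Nat.card_pos) (card_sup_dvd_mul hVn)).trans
      (Nat.mul_le_mul a1 hZc))) ((relIndex_cent_le fun y hy => hRZ y hy x₀ hx₀.1).trans hZc)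
  have hrank : PRankLE ℓ 2 R := by
    by_contra e
    obtain ⟨E, a, b, c⟩ := FT.not_pRankLE_iff.1 e
    exact hnab (eq_of_le_of_card_le a (hcard.trans c.ge) ▸ b.1)
  have hDD : st2 G α β ≤ normalizer ((⁅st2 G α β, st2 G α β⁆ : Subgroup G) : Set G) :=
    normalizer_commutator_ge_left _ _
  have h2 : ⁅R, cm (st2 G α β) t⁆ ≤ Z := (commutator_mono le_rfl hA).trans
    (hprop _ (comm_lt_of_rank2 hl2 hRp hR1 hrank hDR hD) (le_normalizer_commutator hDR hDD)
      (le_normalizer_commutator (zpowers_le_of_mem htR) (le_normalizer_commutator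
        (zpowers_le_of_mem htD) (zpowers_le_of_mem htD)) (mem_zpowers t)))
  have h3 : R ⊓ centralizer {t} ⊔ Z ≤ R := sup_le inf_le_left inf_le_left
  refine hVZ (hmin ⟨h3.trans hRA, ?_, le_normalizer_sup (zpowers_le_of_mem (norm_inf htR
    (le_normalizer (mem_centralizer_singleton_iff.2 rfl)))) (zpowers_le_of_mem (hZn t htR))
    (mem_zpowers t), fun e => hR0 (eq_bot_iff.2 (e ▸ le_inf le_sup_left inf_le_right))⟩ h3)
  rw [← commutator_sup_centralizer (zpowers_le_of_mem htD) (ht.coprime hD) IsInv.solv,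
    centralizer_zpowers]
  exact sup_le (le_normalizer_of_commutator_le (h2.trans le_sup_right) h3)
    (le_normalizer_sup (le_normalizer_inf (inf_le_left.trans hDR)
      (inf_le_right.trans le_normalizer)) fun g hg => hZn g (hDR hg.1))

end Cx

end CfsgLib.SEG
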