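import Cfsg.Agent.Lib.SEG.T

/-! Project SEG: centralizers of `p`-subgroups with three fixed points. -/

set_option autoImplicit false

namespace CfsgLib.SEG

open Subgroup MulAction Cfsg CfsgLib.Cop CfsgLib.H1 CfsgLib.SE

variable {G Ω : Type*} [Group G] [MulAction G Ω]

/-- `k` is trivial or centralizes no involution fixing `α` -/
def Fp (α : Ω) (k : G) : Prop := ∀ u : G, IsInv u → u • α = α → u * k = k * u → k = 1

theorem fix3_of_cent (S : SEA G Ω) {u : G} {α β : Ω} (h : α ≠ β) (hu : IsInv u) (h1 : u • α = α)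
    {X : Subgroup G} (h2 : X ≤ st2 G α β) (h3 : X ≤ centralizer {u}) : Fix3 Ω X :=
  ⟨α, β, u • β, h, (smul_ne_of_fix h1 h.symm).symm, (S.smul_ne hu h1 h.symm).symm,
    h2.trans inf_le_left, h2.trans inf_le_right, le_stab_smul (centralizer_le_normalizer _
      (mem_cent_of_le h3)) (h2.trans inf_le_right)⟩

theorem fix3_of_swap (S : SEA G Ω) {t : G} {α β : Ω} (h : α ≠ β) (ht : IsInv t) (h1 : t • α = β)
    {X : Subgroup G} (h2 : X ≤ st2 G α β) (h3 : X ≤ centralizer {t}) : Fix3 Ω X := by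
  obtain ⟨γ, hγ⟩ := S.fix t ht
  refine ⟨α, β, γ, h, fun e => h ?_, fun e => h ?_, h2.trans inf_le_left, h2.trans inf_le_right,
    h3.trans (S.cent_le ht hγ)⟩
  · rw [← h1, e, hγ]
  · rw [← e, ← h1, ht.smul_smul] at hγ; rw [← h1]; exact hγ

theorem exists_prime_pow [Finite G] {x : G} (hx : x ≠ 1) :
    ∃ p : ℕ, p.Prime ∧ ∃ y ∈ zpowers x, orderOf y = p := by
  obtain ⟨p, hp, hd⟩ := Nat.exists_prime_and_dvd (fun e => hx (orderOf_eq_one_iff.1 e))
  have : Fact p.Prime := ⟨hp⟩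
  obtain ⟨y, hy⟩ := exists_prime_orderOf_dvd_card' (G := zpowers x) p (by rwa [Nat.card_zpowers])
  exact ⟨p, hp, y, y.2, by rwa [orderOf_coe]⟩

theorem isPGroup_zpowers_of {x : G} {p : ℕ} (h : orderOf x = p) : IsPGroup p (zpowers x) :=
  IsPGroup.of_card (n := 1) (by rw [Nat.card_zpowers, h, pow_one])

theorem ne_two_of_odd {p n : ℕ} (hn : Odd n) (h : p ∣ n) : p ≠ 2 := by
  rintro rfl
  exact (Nat.not_even_iff_odd.2 hn) (even_iff_two_dvd.2 h)

/-- the subgroup generated by the involutions fixing `α` and centralizing `X` -/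
def Zg (X : Subgroup G) (α : Ω) : Subgroup G :=
  closure {u | IsInv u ∧ u • α = α ∧ u ∈ centralizer (X : Set G)}

theorem mem_Zg_of {X : Subgroup G} {α : Ω} {u : G} (hu : IsInv u) (h1 : u • α = α)
    (h2 : u ∈ centralizer (X : Set G)) : u ∈ Zg X α := subset_closure ⟨hu, h1, h2⟩

theorem Zg_le (X : Subgroup G) (α : Ω) : Zg X α ≤ stabilizer G α ⊓ centralizer (X : Set G) :=
  (closure_le _).2 fun _ hu => hu.2

theorem Zg_le_Jg (X : Subgroup G) (α : Ω) : Zg X α ≤ Jg G α :=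
  closure_mono fun _ hu => ⟨hu.1, hu.2.1⟩

theorem le_normalizer_Zg [Finite G] (X : Subgroup G) (α : Ω) :
    stabilizer G α ⊓ normalizer (X : Set G) ≤ normalizer (Zg X α : Set G) := fun g hg =>
  mem_normalizer_of_conj_mem fun x hx => (closure_le ((Zg X α).comap
    (MulAut.conj g).toMonoidHom)).2 (fun u hu => mem_Zg_of (hu.1.conj g) (by
      have := conj_smul_eq (g := g) hu.2.1
      rwa [show g • α = α from hg.1] at this)
      (conj_mem_of_mem_normalizer (normalizer_le_normalizer_centralizer X hg.2) hu.2.2)) hx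

namespace Cx

variable [Finite G] (C : Cx G Ω)
include C

theorem le_cent_of_not_rk2 {N : Subgroup G} {a : G} {α : Ω} (ha : IsInv a) (h1 : a • α = α)
    (h2 : a ∈ N) (h3 : ¬ N ≤ stabilizer G α) (h4 : ¬ Rk2 N) :
    N ⊓ stabilizer G α ≤ centralizer {a} := by
  obtain ⟨y, -, -, h5, X, h6, h7, h8, h9⟩ := exists_block C.S ha h1 h2 h3 h4
  have hO := odd_piCoreOf N
  have h10 := le_cent_of_cm ha (odd_of_le hO inf_le_left)
    (norm_inf (le_normalizer_piCoreOf N h2) (le_normalizer h1)) (h8.trans (C.le_cent ha h1 h5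
      (h9.trans inf_le_right) (le_stab_smul h7 (h9.trans inf_le_right)) h6))
  rintro g ⟨hg, e⟩
  have h11 := zstar_of_not_rk2 h4 ha h2 hg
  have h12 := mem_centralizer_singleton_iff.1 (h10 ⟨h11, (stabilizer G α).mul_mem
    ((stabilizer G α).mul_mem (mul_mem e h1) (inv_mem e)) (inv_mem h1)⟩)
  have h13 : g * a * g⁻¹ * a⁻¹ = 1 := Invol.eq_one_of_odd (odd_orderOf_of_mem hO h11) (by
    rw [ha.inv_eq] at h12 ⊢
    rw [mul_assoc _ a, ← h12]
    simp only [mul_assoc, ha.1, mul_one, inv_mul_cancel_left, ha.mul_mul, mul_inv_cancel])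
  rw [mem_centralizer_singleton_iff, ← mul_inv_eq_iff_eq_mul, ← mul_inv_eq_one, h13]

section P

variable {p : ℕ} [Fact p.Prime] (hp2 : p ≠ 2) {X : Subgroup G} (hX : IsPGroup p X)
  (h3 : Fix3 Ω X) {α : Ω} (hα : X ≤ stabilizer G α)
include hp2 hX h3 hα

theorem cent_not_le : ¬ centralizer (X : Set G) ≤ stabilizer G α := fun e => by
  obtain ⟨β, a, -, b⟩ := h3.exists_third α α
  obtain ⟨c, hc, e1⟩ := C.cent_trans hp2 hX h3 a.symm hα b
  exact a (e1.symm.trans (e hc))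

theorem rk2_of_fp {k : G} (h1 : k ∈ centralizer (X : Set G)) (h2 : k • α = α) (hk : k ≠ 1)
    (h4 : Fp α k) : Rk2 (centralizer (X : Set G)) := by
  by_contra h5
  obtain ⟨u, hu, a, b⟩ := C.exists_inv_cent hp2 hX h3 hα
  exact hk (h4 u hu a (mem_centralizer_singleton_iff.1 (C.le_cent_of_not_rk2 hu a
    (mem_cent_of_le b) (C.cent_not_le hp2 hX h3 hα) h5 ⟨h1, h2⟩)).symm)

variable (h0 : X ≠ ⊥) (hr : Rk2 (centralizer (X : Set G)))
include h0 hr

theorem bt_cent : BT (centralizer (X : Set G)) α := by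
  obtain ⟨u, hu, a, b⟩ := C.exists_inv_cent hp2 hX h3 hα
  exact C.ih _ α (C.cent_ne_top (odd_card_of_isPGroup hp2 hX) h0)
    (C.S.rk2_inf hu (mem_cent_of_le b) a hr) (C.cent_not_le hp2 hX h3 hα)

theorem comm_of_rk2 {a b : G} (ha : IsInv a) (hb : IsInv b) (h1 : a • α = α) (h2 : b • α = α)
    (h4 : a ∈ centralizer (X : Set G)) (h5 : b ∈ centralizer (X : Set G)) : a * b = b * a := by
  obtain ⟨m, hm, h6⟩ := SetLike.not_le_iff_exists.1 (C.cent_not_le hp2 hX h3 hα)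
  have h7 := C.ic a (a * b * (a * b)) α (m • α) ha h1 h6 (by simp only [mul_smul, h1, h2])
    ((C.bt_cent hp2 hX h3 hα h0 hr).sq a h4 b h5 ha hb h1 h2 m hm)
    (by rw [← conj_mul, Invol.inverts_mul ha.1 hb.1, mul_inv_rev (a * b)])
  have h8 := inv_eq_of_mul_eq_one_right h7
  rw [mul_inv_rev, ha.inv_eq, hb.inv_eq] at h8
  exact h8.symm

theorem tr_of_rk2 {β γ : Ω} (h1 : β ≠ α) (h2 : γ ≠ α) (h4 : β ≠ γ) (h5 : X ≤ stabilizer G β)
    (h6 : X ≤ stabilizer G γ) : ∃ s : G, IsInv s ∧ s • α = α ∧ s • β = γ := by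
  obtain ⟨m, hm, rfl⟩ := C.cent_trans hp2 hX h3 h1.symm hα h5
  obtain ⟨n, hn, rfl⟩ := C.cent_trans hp2 hX h3 h2.symm hα h6
  obtain ⟨s, -, h⟩ := (C.bt_cent hp2 hX h3 hα h0 hr).tr m hm n hn h1 h2 h4
  exact ⟨s, h⟩

theorem sq_of_mem_Zg {z : G} (hz : z ∈ Zg X α) : z * z = 1 := by
  have key : ∀ z ∈ Zg X α, z * z = 1 → ∀ w ∈ Zg X α, w * w = 1 → z * w = w * z :=
    fun z hz e w hw e' => by
      by_cases e1 : z = 1
      · simp [e1]
      by_cases e2 : w = 1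
      · simp [e2]
      exact C.comm_of_rk2 hp2 hX h3 hα h0 hr ⟨e, e1⟩ ⟨e', e2⟩ (Zg_le X α hz).1 (Zg_le X α hw).1
        (Zg_le X α hz).2 (Zg_le X α hw).2
  induction hz using closure_induction with
  | mem x hx => exact hx.1.1
  | one => simp
  | mul x y hx hy e1 e2 =>
    rw [mul_assoc, ← mul_assoc y, ← key x hx e1 y hy e2, mul_assoc, e2, mul_one, e1]
  | inv x _ e => rw [← mul_inv_rev, e, inv_one]

theorem isPGroup_Zg : IsPGroup 2 (Zg X α) := fun z =>
  ⟨1, Subtype.ext (by simpa [pow_two] using C.sq_of_mem_Zg hp2 hX h3 hα h0 hr z.2)⟩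

omit h0 hr in
theorem Zg_ne_bot : Zg X α ≠ ⊥ := fun e => by
  obtain ⟨u, hu, a, b⟩ := C.exists_inv_cent hp2 hX h3 hα
  exact hu.2 (mem_bot.1 (e ▸ mem_Zg_of hu a (mem_cent_of_le b)))

theorem Zg_inf_cent {k : G} (hk : k ≠ 1) (h : Fp α k) : Zg X α ⊓ centralizer {k} = ⊥ :=
  eq_bot_iff.2 fun z hz => by
    by_contra e
    exact hk (h z ⟨C.sq_of_mem_Zg hp2 hX h3 hα h0 hr hz.1, e⟩ (Zg_le X α hz.1).1
      (mem_centralizer_singleton_iff.1 hz.2))

theorem cyclic_of_rk2 {B : Subgroup G} (hB : IsMulCommutative B)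
    (h1 : B ≤ stabilizer G α ⊓ normalizer (X : Set G)) (h2 : ∀ k ∈ B, Fp α k) : IsCyclic B :=
  FT.regular_abelian_cyclic hB (C.Zg_ne_bot hp2 hX h3 hα) (h1.trans (le_normalizer_Zg X α))
    fun k hk e => C.Zg_inf_cent hp2 hX h3 hα h0 hr e (h2 k hk)

end P

theorem eq_one_of_cent {α β : Ω} (h : α ≠ β) {x : G} (hx : x ∈ st2 G α β)
    (h1 : ∀ u, IsInv u → u • α = α → u * x = x * u) : x = 1 := by
  by_contra h2
  obtain ⟨p, hp, y, hy, e⟩ := exists_prime_pow h2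
  have : Fact p.Prime := ⟨hp⟩
  have h3 : zpowers y ≤ st2 G α β := zpowers_le_of_mem (zpowers_le_of_mem hx hy)
  have h4 : ∀ u, IsInv u → u • α = α → zpowers y ≤ centralizer {u} := fun u a b =>
    zpowers_le_of_mem (zpowers_le_of_mem (mem_centralizer_singleton_iff.2 (h1 u a b).symm) hy)
  have h5 := odd_of_le (C.S.odd_st2 h) h3
  obtain ⟨u, hu, a⟩ := C.S.exists_inv α
  refine C.cent_not_le (ne_two_of_odd h5 (by rw [Nat.card_zpowers, e])) (isPGroup_zpowers_of e)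
    (fix3_of_cent C.S h hu a h3 (h4 u hu a)) (h3.trans inf_le_left) (C.le_stab_of_inv
      (C.cent_ne_top h5 fun e1 => ?_) fun u a b => mem_cent_of_le (h4 u a b))
  rw [zpowers_eq_bot.1 e1, orderOf_one] at e
  exact hp.ne_one e.symm

theorem D1_ne_bot {α β : Ω} (h : α ≠ β) : Jg G α ⊓ st2 G α β ≠ ⊥ := fun e => by
  obtain ⟨a, b, ha, hb, h1, h2, h3⟩ := C.exists_not_comm α
  obtain ⟨p, hp, hd⟩ := Nat.exists_prime_and_dvd (n := (centralizer {a}).relIndex (Jg G α))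
    fun e => h3 (mem_centralizer_singleton_iff.1 (relIndex_eq_one.1 e (mem_Jg hb h2))).symm
  have : Fact p.Prime := ⟨hp⟩
  have h4 : p ∣ nJ G α := by
    refine hd.trans ?_
    have := normal_subgroupOf_of_le_normalizer (le_normalizer_Jg (G := G) α)
    rw [← C.S.relIndex_cent_stab ha h1, ← relIndex_subgroupOf (Jg_le α)]
    exact OrbitRep.relIndex_dvd_index_of_normal_right _ _
  obtain ⟨P, hP⟩ := IsSylowIn.exists_in (p := p) (st2 G α β)
  have hP' := C.sylow_stab h4 h hP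
  refine (hP'.inf_of_le_normalizer (Jg_le α) (hP'.le.trans (le_normalizer_Jg α))).ne_bot
    (hd.trans (relIndex_dvd_card _ _)) (eq_bot_iff.2 ?_)
  rw [← e, inf_comm]
  exact inf_le_inf_left _ hP.le

end Cx

end CfsgLib.SEG
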