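import Cfsg.Agent.Lib.SE.Main
import Cfsg.Agent.Lib.CommCalc

/-! Project SEG: abstract lemmas on involutions acting on groups of odd order. -/

set_option autoImplicit false

namespace CfsgLib.SEG

open Subgroup Cfsg CfsgLib.Cop CfsgLib.H1 CfsgLib.SE
open scoped commutatorElement

variable {G : Type*} [Group G]

/-- the commutator subgroup `[X, t]` -/
def cm (X : Subgroup G) (t : G) : Subgroup G := ⁅X, zpowers t⁆

theorem inv_cases {t a : G} (ht : IsInv t) (ha : a ∈ zpowers t) : a = 1 ∨ a = t := by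
  obtain ⟨n, rfl⟩ := ha
  have h5 : t ^ (2 : ℤ) = 1 := by rw [zpow_two, ht.1]
  rcases Int.even_or_odd' n with ⟨k, rfl | rfl⟩
  · exact Or.inl (by simp only [zpow_mul, h5, one_zpow])
  · exact Or.inr (by simp only [zpow_add, zpow_mul, h5, one_zpow, one_mul, zpow_one])

theorem mem_cm {X : Subgroup G} {x : G} (hx : x ∈ X) (t : G) : x * t * x⁻¹ * t⁻¹ ∈ cm X t :=
  commutator_mem_commutator hx (mem_zpowers t)

theorem cm_le_iff {X K : Subgroup G} {t : G} (ht : IsInv t) :
    cm X t ≤ K ↔ ∀ x ∈ X, x * t * x⁻¹ * t⁻¹ ∈ K := by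
  refine ⟨fun h x hx => h (mem_cm hx t), fun h => commutator_le.2 fun x hx a ha => ?_⟩
  rcases inv_cases ht ha with rfl | rfl
  · simp
  · exact h x hx

theorem cm_mono {X Y : Subgroup G} (h : X ≤ Y) (t : G) : cm X t ≤ cm Y t :=
  commutator_mono h le_rfl

theorem cm_le {X : Subgroup G} {t : G} (h : t ∈ normalizer (X : Set G)) : cm X t ≤ X :=
  commutator_le_left_of_le_normalizer (zpowers_le_of_mem h)

theorem le_normalizer_cm (X : Subgroup G) (t : G) : X ≤ normalizer (cm X t : Set G) :=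
  normalizer_commutator_ge_left _ _

theorem mem_normalizer_cm (X : Subgroup G) (t : G) : t ∈ normalizer (cm X t : Set G) :=
  normalizer_commutator_ge_right _ _ (mem_zpowers t)

theorem cm_eq_bot_iff {X : Subgroup G} {t : G} : cm X t = ⊥ ↔ X ≤ centralizer {t} := by
  rw [cm, commutator_eq_bot_iff_le_centralizer, centralizer_zpowers]

theorem cm_map_conj (X : Subgroup G) (t g : G) :
    (cm X t).map (MulAut.conj g).toMonoidHom =
      cm (X.map (MulAut.conj g).toMonoidHom) (g * t * g⁻¹) := by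
  rw [cm, map_commutator, MonoidHom.map_zpowers]; rfl

variable [Finite G]

theorem mem_cm_of_inverts {X : Subgroup G} {t y : G} (hy : y ∈ X) (ho : Odd (orderOf y))
    (e : t * y * t⁻¹ = y⁻¹) : y ∈ cm X t := by
  refine mem_of_sq_mem ho ?_
  have h := mem_cm hy t
  have h2 : t * y⁻¹ * t⁻¹ = y := by rw [← conj_inv, e, inv_inv]
  rwa [mul_assoc, mul_assoc, ← mul_assoc t, h2] at h

theorem cm_cm {X : Subgroup G} {t : G} (ht : IsInv t) (hX : Odd (Nat.card X))
    (h : t ∈ normalizer (X : Set G)) : cm (cm X t) t = cm X t :=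
  commutator_commutator_eq (zpowers_le_of_mem h) (ht.coprime hX)

theorem le_cent_of_cm {X : Subgroup G} {t : G} (ht : IsInv t) (hX : Odd (Nat.card X))
    (h : t ∈ normalizer (X : Set G)) (h1 : cm X t ≤ centralizer {t}) : X ≤ centralizer {t} := by
  rw [← cm_eq_bot_iff, ← cm_cm ht hX h, cm_eq_bot_iff]; exact h1

theorem odd_of_le {X Y : Subgroup G} (hY : Odd (Nat.card Y)) (h : X ≤ Y) : Odd (Nat.card X) :=
  hY.of_dvd_nat (card_dvd_of_le h)

/-- a group of odd order is generated by the centralizer of an involution and the inverted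
elements -/
theorem le_of_cent_of_inverted {X K : Subgroup G} {t : G} (ht : IsInv t) (hX : Odd (Nat.card X))
    (h : t ∈ normalizer (X : Set G)) (h1 : X ⊓ centralizer {t} ≤ K)
    (h2 : ∀ y ∈ X, t * y * t⁻¹ = y⁻¹ → y ∈ K) : X ≤ K := by
  have h3 := commutator_sup_centralizer (zpowers_le_of_mem h) (ht.coprime hX) IsInv.solv
  rw [← h3, centralizer_zpowers]
  refine sup_le ((cm_le_iff ht).2 fun x hx => h2 _ (cm_le h (mem_cm hx t)) ?_) h1
  simp only [ht.inv_eq, mul_inv_rev, inv_inv, ← mul_assoc, ht.1, one_mul]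
  simp only [mul_assoc, ht.1, mul_one]

/-- one step of the subnormal chain for `[T, t]` -/
theorem exists_step_S {O T : Subgroup G} {t : G} (ht : IsInv t) (hO : Odd (Nat.card O))
    (htO : t ∈ normalizer (O : Set G)) (htT : t ∈ normalizer (T : Set G))
    (hC : O ⊓ centralizer {t} ≤ T) (hTO : T < O) :
    ∃ Y C : Subgroup G, T < Y ∧ Y ≤ O ∧ t ∈ normalizer (Y : Set G) ∧ t ∈ normalizer (C : Set G) ∧
      cm T t ≤ C ∧ C ≤ T ∧ Y ≤ normalizer (C : Set G) := by
  obtain ⟨Y, ⟨hTY, hYO, htY⟩, hYm⟩ := exists_minimal_of_wellFoundedLT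
    (fun Y : Subgroup G => T < Y ∧ Y ≤ O ∧ t ∈ normalizer (Y : Set G)) ⟨O, hTO, le_rfl, htO⟩
  have hn : ∀ {A : Subgroup G}, Y ⊔ zpowers t ≤ normalizer (A : Set G) →
      t ∈ normalizer (A : Set G) := fun h => h (mem_sup_right (mem_zpowers t))
  have hYn : Y ⊔ zpowers t ≤ normalizer (Y : Set G) := sup_le le_normalizer (zpowers_le_of_mem htY)
  obtain ⟨C, ⟨hCT, hC1⟩, hCm⟩ := exists_maximal_of_wellFoundedGT
    (fun C : Subgroup G => C ≤ T ∧ Y ⊔ zpowers t ≤ normalizer (C : Set G))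
    ⟨⊥, bot_le, by rw [normalizer_eq_top]; exact le_top⟩
  have hCmax : ∀ A : Subgroup G, A ≤ T → Y ⊔ zpowers t ≤ normalizer (A : Set G) → A ≤ C :=
    fun A h1 h2 => le_sup_right.trans
      (hCm ⟨sup_le hCT h1, le_normalizer_sup hC1 h2⟩ (le_sup_left : C ≤ C ⊔ A))
  obtain ⟨V, ⟨hCV, hVY, hV1⟩, hVm⟩ := exists_minimal_of_wellFoundedLT
    (fun V : Subgroup G => C < V ∧ V ≤ Y ∧ Y ⊔ zpowers t ≤ normalizer (V : Set G))
    ⟨Y, hCT.trans_lt hTY, le_rfl, hYn⟩
  have hVo : Odd (Nat.card V) := odd_of_le hO (hVY.trans hYO)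
  have hVC : V ≤ normalizer (C : Set G) := hVY.trans (le_sup_left.trans hC1)
  have hab : ⁅V, V⁆ ≤ C := by
    by_contra h
    have h1 : ⁅V, V⁆ ⊔ C < V := lt_of_le_of_ne (sup_le (commutator_le_left_of_le_normalizer
      le_normalizer) hCV.le) fun e =>
        hCV.ne (FT.eq_of_le_commutator_sup (FT.feit_thompson hVo) hCV.le hVC e.ge)
    refine h1.not_ge (hVm ⟨lt_of_le_of_ne le_sup_right fun e => h (e ▸ le_sup_left),
      h1.le.trans hVY, le_normalizer_sup (le_normalizer_commutator hV1 hV1) hC1⟩ h1.le)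
  have hVT : ¬ V ≤ T := fun h => hCV.not_ge (hCmax V h hV1)
  have hTV : T ≤ normalizer (V : Set G) := hTY.le.trans (le_sup_left.trans hV1)
  have hY : Y ≤ T ⊔ V := hYm ⟨lt_of_le_of_ne le_sup_left fun e => hVT (e ▸ le_sup_right),
    sup_le hTO.le (hVY.trans hYO), le_normalizer_sup (zpowers_le_of_mem htT)
      (zpowers_le_of_mem (hn hV1)) (mem_zpowers t)⟩ (sup_le hTY.le hVY)
  have hgen : ∀ A : Subgroup G, A ≤ T → T ≤ normalizer (A : Set G) → V ≤ normalizer (A : Set G) →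
      t ∈ normalizer (A : Set G) → A ≤ C := fun A h1 h2 h3 h4 =>
    hCmax A h1 (sup_le (hY.trans (sup_le h2 h3)) (zpowers_le_of_mem h4))
  have hVTC : V ⊓ T ≤ C := by
    refine hgen _ inf_le_right (le_normalizer_inf hTV le_normalizer) ?_
      (le_normalizer_inf (zpowers_le_of_mem (hn hV1)) (zpowers_le_of_mem htT) (mem_zpowers t))
    intro v hv
    refine mem_normalizer_of_conj_mem fun x hx =>
      ⟨V.mul_mem (V.mul_mem hv hx.1) (V.inv_mem hv), ?_⟩
    have h1 := T.mul_mem (hCT (hab (commutator_mem_commutator hv hx.1))) hx.2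
    simpa [commutatorElement_def] using h1
  have hinv : ∀ v ∈ V, t * v * t⁻¹ * v ∈ C := by
    intro v hv
    have h1 : t * v * t⁻¹ ∈ V := conj_mem_of_mem_normalizer (hn hV1) hv
    obtain ⟨n, hn1, c, hc, e⟩ := exists_mul_centralizer_of_commutator_mem (A := zpowers t) (N := C)
      (zpowers_le_of_mem (hn hC1)) (ht.coprime (odd_of_le hVo hCV.le)) IsInv.solv
      (g := t * v * t⁻¹ * v) (fun a ha => by
        rcases inv_cases ht ha with rfl | rfl
        · simp
        · have h2 := hab (commutator_mem_commutator h1 hv)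
          convert h2 using 1
          simp only [commutatorElement_def, ht.inv_eq, mul_inv_rev, mul_assoc, ht.1, mul_one])
    have h2 : c ∈ V := by
      have := V.mul_mem (V.inv_mem (hCV.le hn1)) (V.mul_mem h1 hv)
      rwa [← e, inv_mul_cancel_left] at this
    rw [centralizer_zpowers] at hc
    rw [← e]
    exact mul_mem hn1 (hVTC ⟨h2, hC ⟨hYO (hVY h2), hc⟩⟩)
  have hTC : T ≤ normalizer (C : Set G) := hTY.le.trans (le_sup_left.trans hC1)
  have hcm : cm T t ≤ CommCalc.relCent C V := by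
    refine (cm_le_iff ht).2 fun x hx => ⟨hTC (cm_le htT (mem_cm hx t)), fun v hv => ?_⟩
    have h1 : x⁻¹ * (t⁻¹ * v * t) * x ∈ V :=
      conj_mem_of_mem_normalizer' (hTV hx) (conj_mem_of_mem_normalizer' (hn hV1) hv)
    have h2 := C.mul_mem (conj_mem_of_mem_normalizer (hTC hx) (hinv _ h1)) (hinv _ (inv_mem hv))
    convert h2 using 1
    simp only [commutatorElement_def, ht.inv_eq, mul_inv_rev, mul_assoc, inv_inv,
      mul_inv_cancel_left, ht.mul_mul]
  refine ⟨Y, C, hTY, hYO, htY, hn hC1, ?_, hCT, le_sup_left.trans hC1⟩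
  refine le_sup_right.trans (hgen (C ⊔ cm T t) (sup_le hCT (cm_le htT))
    (le_normalizer_sup hTC (le_normalizer_cm T t)) ?_
    (le_normalizer_sup (zpowers_le_of_mem (hn hC1)) (zpowers_le_of_mem (mem_normalizer_cm T t))
      (mem_zpowers t)))
  intro v hv
  refine mem_normalizer_of_conj_mem fun x hx => ?_
  obtain ⟨c, hc, k, hk, rfl⟩ :=
    (mem_sup_iff_of_le_normalizer' ((cm_le htT).trans hTC)).1 hx
  have h1 := conj_mem_of_mem_normalizer' (hcm hk).1 ((hcm hk).2 v hv)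
  have h2 : v * (c * k) * v⁻¹ = (v * c * v⁻¹) * (k * (k⁻¹ * ⁅k, v⁆ * k)⁻¹ * k⁻¹) * k := by
    simp only [commutatorElement_def]; group
  rw [h2]
  exact mul_mem_sup (C.mul_mem (conj_mem_of_mem_normalizer (hVC hv) hc)
    (conj_mem_of_mem_normalizer (hcm hk).1 (C.inv_mem h1))) hk

/-- `O_p([T, t]) ≤ O_p(O)` if `T` contains the centralizer of `t` -/
theorem pCore_cm_le {p : ℕ} {O : Subgroup G} {t : G} (ht : IsInv t) (hO : Odd (Nat.card O))
    (htO : t ∈ normalizer (O : Set G)) (T : Subgroup G) : t ∈ normalizer (T : Set G) →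
    O ⊓ centralizer {t} ≤ T → T ≤ O → pCoreOf p (cm T t) ≤ pCoreOf p O := by
  induction T using WellFoundedGT.induction with
  | ind T ih =>
  intro htT hC hTO
  rcases hTO.eq_or_lt with rfl | h
  · exact pCoreOf_le_of_le_normalizer (cm_le htT) (le_normalizer_cm _ _)
  obtain ⟨Y, C, h1, h2, h3, -, h5, h6, h7⟩ := exists_step_S ht hO htO htT hC h
  refine le_trans ?_ (ih Y h1 h3 (hC.trans h1.le) h2)
  have h8 : pCoreOf p (cm T t) ≤ pCoreOf p Y :=
    (pCoreOf_le_of_le_normalizer h5 (h6.trans (le_normalizer_cm T t))).trans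
      (pCoreOf_le_of_le_normalizer (h6.trans h1.le) h7)
  exact (le_inf h8 ((pCoreOf_le _).trans (cm_mono h1.le t))).trans (pCoreOf_inf_le (cm_le h3))

/-- an involution that centralizes the Fitting subgroup of a group of odd order centralizes it -/
theorem le_cent_of_pCore {X : Subgroup G} {a : G} (ha : IsInv a) (hX : Odd (Nat.card X))
    (h : a ∈ normalizer (X : Set G))
    (h1 : ∀ (ℓ : ℕ) [Fact ℓ.Prime], pCoreOf ℓ X ≤ centralizer {a}) : X ≤ centralizer {a} := by
  rw [← cm_eq_bot_iff]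
  refine commutator_eq_bot_of_centralizer_le (N := fittingOf X) (zpowers_le_of_mem h)
    (le_normalizer_fittingOf X)
    (inf_centralizer_fittingOf_le (layerIn_eq_bot_of_isSolvable (FT.feit_thompson hX)))
    (cm_eq_bot_iff.2 (fittingOf_le_of_forall h1)) (ha.coprime (odd_of_le hX (fittingOf_le X)))

theorem piCore_le_cent {p : ℕ} [Fact p.Prime] {X : Subgroup G} {a : G} (ha : IsInv a)
    (hX : Odd (Nat.card X)) (h : a ∈ normalizer (X : Set G))
    (h1 : ∀ (ℓ : ℕ) [Fact ℓ.Prime], ℓ ≠ p → pCoreOf ℓ X ≤ centralizer {a}) :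
    piCoreOf {p}ᶜ X ≤ centralizer {a} := by
  refine le_cent_of_pCore ha (odd_of_le hX (piCoreOf_le X)) (normalizer_le_normalizer_piCoreOf X h)
    fun ℓ _ => ?_
  by_cases e : ℓ = p
  · subst e
    rw [H5.eq_bot_of_isPGroup_of_coprime (pCoreOf_isPGroup (p := ℓ) (piCoreOf {ℓ}ᶜ X))
      ((piCoreOf_compl_coprime ℓ X).coprime_dvd_left (card_dvd_of_le (pCoreOf_le _)))]
    exact bot_le
  · exact (pCoreOf_le_of_le_normalizer (piCoreOf_le X) (le_normalizer_piCoreOf X)).trans (h1 ℓ e)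

theorem cent_of_coprime {A B : Subgroup G} (h1 : A ≤ normalizer (B : Set G))
    (h2 : B ≤ normalizer (A : Set G)) (h : (Nat.card A).Coprime (Nat.card B)) :
    A ≤ centralizer (B : Set G) :=
  commutator_eq_bot_iff_le_centralizer.1 (commutator_eq_bot_of_coprime h1 h2 h)

theorem coprime_of_ne {p ℓ : ℕ} [hp : Fact p.Prime] [hl : Fact ℓ.Prime] (h : ℓ ≠ p)
    {A B : Subgroup G} (hA : IsPGroup ℓ A) (hB : IsPGroup p B) :
    (Nat.card A).Coprime (Nat.card B) := by
  obtain ⟨i, hi⟩ := hA.exists_card_eq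
  obtain ⟨j, hj⟩ := hB.exists_card_eq
  rw [hi, hj]
  exact Nat.Coprime.pow _ _ ((Nat.coprime_primes hl.out hp.out).2 h)

theorem pCore_le_cent_pCore {p ℓ : ℕ} [Fact p.Prime] [Fact ℓ.Prime] (h : ℓ ≠ p) (D : Subgroup G) :
    pCoreOf ℓ D ≤ centralizer (pCoreOf p D : Set G) :=
  cent_of_coprime ((pCoreOf_le D).trans (le_normalizer_pCoreOf D))
    ((pCoreOf_le D).trans (le_normalizer_pCoreOf D))
    (coprime_of_ne h (pCoreOf_isPGroup D) (pCoreOf_isPGroup D))

theorem piCore_le_cent_pCore {p : ℕ} [Fact p.Prime] (D : Subgroup G) :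
    piCoreOf {p}ᶜ D ≤ centralizer (pCoreOf p D : Set G) :=
  cent_of_coprime ((piCoreOf_le D).trans (le_normalizer_pCoreOf D))
    ((pCoreOf_le D).trans (le_normalizer_piCoreOf D))
    (coprime_card_of_isPGroup (piCoreOf_compl_coprime p D) (pCoreOf_isPGroup D))

theorem pCore_eq_of_cent {p ℓ : ℕ} [Fact p.Prime] [Fact ℓ.Prime] (h : ℓ ≠ p) {T D : Subgroup G}
    (h1 : pCoreOf p D ≤ T) (h2 : T ≤ D) (h3 : D ⊓ centralizer (pCoreOf p D : Set G) ≤ T) :
    pCoreOf ℓ T = pCoreOf ℓ D := by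
  refine le_antisymm ?_ (pCoreOf_le_pCoreOf h2
    ((le_inf (pCoreOf_le D) (pCore_le_cent_pCore h D)).trans h3))
  have h4 : pCoreOf ℓ T ≤ D ⊓ centralizer (pCoreOf p D : Set G) :=
    le_inf ((pCoreOf_le T).trans h2) (cent_of_coprime
      (((pCoreOf_le T).trans h2).trans (le_normalizer_pCoreOf D))
      (h1.trans (le_normalizer_pCoreOf T))
      (coprime_of_ne h (pCoreOf_isPGroup T) (pCoreOf_isPGroup D)))
  exact (pCoreOf_le_pCoreOf h3 h4).trans (pCoreOf_le_of_le_normalizer inf_le_left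
    (le_normalizer_inf le_normalizer (le_normalizer_centralizer (le_normalizer_pCoreOf D))))

theorem pCore_le_of_norm {s : ℕ} [Fact s.Prime] {W D : Subgroup G} (h1 : W ≤ D)
    (h2 : D ⊓ normalizer (pCoreOf s W : Set G) ≤ W) : pCoreOf s D ≤ pCoreOf s W := by
  set A := pCoreOf s W
  set B := pCoreOf s D
  have hA : A ≤ normalizer (B : Set G) := ((pCoreOf_le W).trans h1).trans (le_normalizer_pCoreOf D)
  have hP : IsPGroup s ↥(A ⊔ B) :=
    isPGroup_sup_of_le_normalizer (pCoreOf_isPGroup W) (pCoreOf_isPGroup D) hA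
  by_contra h
  have h3 : A < A ⊔ B := lt_of_le_of_ne le_sup_left fun e => h (e ▸ le_sup_right)
  obtain ⟨x, ⟨hx, hxn⟩, hxA⟩ := SetLike.exists_of_lt (lt_inf_normalizer_of_isPGroup hP h3)
  obtain ⟨a, ha, b, hb, rfl⟩ := (mem_sup_iff_of_le_normalizer hA).1 hx
  have h4 : b ∈ normalizer (A : Set G) := by
    simpa using mul_mem (inv_mem (le_normalizer ha)) hxn
  exact hxA (A.mul_mem ha (pCoreOf_inf_le h1 ⟨hb, h2 ⟨pCoreOf_le D hb, h4⟩⟩))

/-- an involution that centralizes `O_{p'}(X)` normalizes `dSub` of each Sylow subgroup -/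
theorem mem_norm_dSub {p : ℕ} [Fact p.Prime] (hp2 : p ≠ 2) {X P : Subgroup G}
    (hs : Group.IsSolvable X) (h2 : AbTwo X) (hP : IsSylowIn p P X) {a : G}
    (ha : IsInv a) (haX : a ∈ normalizer (X : Set G)) (hU : Odd (Nat.card (piCoreOf {p}ᶜ X)))
    (hc : piCoreOf {p}ᶜ X ≤ centralizer {a}) : a ∈ normalizer (dSub P : Set G) := by
  obtain ⟨k, hk, h1⟩ := hP.frattini_elem haX
  obtain ⟨u, hu, n, hn, e⟩ := (mem_sup_iff_of_le_normalizer'
    (inf_le_left.trans (le_normalizer_piCoreOf X))).1 (fact hp2 hs h2 hP (inv_mem hk))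
  have h3 : u⁻¹ * a ∈ normalizer (dSub P : Set G) := by
    have := mul_mem hn.2 (normalizer_le_normalizer_dSub P h1)
    rwa [← inv_inv k, ← e, mul_inv_rev, ← mul_assoc, mul_inv_cancel_left] at this
  have h4 : u⁻¹ * a = a * u⁻¹ := mem_centralizer_singleton_iff.1 (inv_mem (hc hu))
  have h5 : u⁻¹ ∈ normalizer (dSub P : Set G) := by
    refine mem_of_sq_mem (odd_orderOf_of_mem hU (inv_mem hu)) ?_
    have := mul_mem h3 h3
    nth_rw 2 [h4] at this
    rwa [mul_assoc, ha.mul_mul] at this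
  simpa using mul_mem (inv_mem h5) h3

end CfsgLib.SEG
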