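import Cfsg.Agent.Lib.SEG.I2

/-! Project SEG: double transitivity and the fixed points of `p`-subgroups. -/

set_option autoImplicit false

namespace CfsgLib.SEG

open Subgroup MulAction Cfsg CfsgLib.Cop CfsgLib.H1 CfsgLib.SE

variable {G Ω : Type*} [Group G] [MulAction G Ω]

namespace Cx

variable [Finite G] (C : Cx G Ω)
include C

theorem le_cent {u : G} {α β : Ω} (hu : IsInv u) (h1 : u • α = α) (hne : β ≠ α) {X : Subgroup G}
    (h2 : X ≤ stabilizer G α) (h3 : X ≤ stabilizer G β) (h4 : u ∈ normalizer (X : Set G)) :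
    X ≤ centralizer {u} := by
  by_contra h
  obtain ⟨y, hy, hy1, e⟩ := exists_inverted hu h4 h
  exact hy1 (C.ic u y α β hu h1 hne (h2 hy) (h3 hy) e)

theorem le_cent3 {u : G} {α : Ω} (hu : IsInv u) (h1 : u • α = α) {X : Subgroup G}
    (h3 : Fix3 Ω X) (h2 : X ≤ stabilizer G α) (h4 : u ∈ normalizer (X : Set G)) :
    X ≤ centralizer {u} := by
  obtain ⟨β, a, -, b⟩ := h3.exists_third α α
  exact C.le_cent hu h1 a h2 b h4

/-- two involutions with the same fixed point that agree at another point are equal -/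
theorem inv_eq {a b : G} {α β : Ω} (ha : IsInv a) (hb : IsInv b) (h1 : a • α = α)
    (h2 : b • α = α) (hne : β ≠ α) (e : a • β = b • β) : a = b := by
  have := C.ic a (a * b) α β ha h1 hne (by rw [mul_smul, h2, h1])
    (by rw [mul_smul, ← e, ha.smul_smul]) (Invol.inverts_mul ha.1 hb.1)
  rw [← ha.inv_eq]; exact inv_eq_of_mul_eq_one_right this

theorem exists_inv_cent_max3 {p : ℕ} [Fact p.Prime] (hp2 : p ≠ 2) {Y : Subgroup G}
    (hY : Max3 Ω p Y) :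
    ∃ w, IsInv w ∧ Y ≤ centralizer {w} ∧ ∃ δ : Ω, Y ≤ stabilizer G δ ∧ w • δ = δ := by
  obtain ⟨w, hwN, hw, δ, h1, h2⟩ := C.S.exists_inv_max3 hp2 hY
  exact ⟨w, hw, C.le_cent3 hw h2 hY.fix3 h1 hwN, δ, h1, h2⟩

theorem le_cent_of_fix3 {p : ℕ} [Fact p.Prime] (hp2 : p ≠ 2) {P : Subgroup G}
    (hP : IsPGroup p P) (h3 : Fix3 Ω P) {t : G} (ht : IsInv t) (h : t ∈ normalizer (P : Set G)) :
    P ≤ centralizer {t} := by
  by_contra h1
  obtain ⟨y, hy, hy1, e⟩ := exists_inverted ht h h1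
  obtain ⟨Y, hPY, hY⟩ := exists_max3 hP h3
  obtain ⟨w, hw, h2, δ, h4, h5⟩ := C.exists_inv_cent_max3 hp2 hY
  obtain ⟨γ, hγ⟩ := C.S.fix t ht
  have hodd := odd_orderOf_of_mem (odd_card_of_isPGroup hp2 hP) hy
  obtain rfl := C.S.eq_of_inverts_of_comm hodd hy1 ht hw hγ h5 e
    (mem_centralizer_singleton_iff.1 (h2 (hPY hy))).symm
  obtain ⟨η, a, -, b⟩ := hY.fix3.exists_third γ γ
  exact hy1 (C.ic t y γ η ht hγ a (h4 (hPY hy)) (b (hPY hy)) e)

theorem not_fix3_sylow {p : ℕ} [Fact p.Prime] {α β : Ω} (hd : p ∣ nJ G α) (h : α ≠ β)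
    {P : Subgroup G} (hP : IsSylowIn p P (st2 G α β)) : ¬ Fix3 Ω P := by
  intro h3
  have hp2 : p ≠ 2 := by
    rintro rfl
    exact (Nat.not_even_iff_odd.2 (C.S.odd_nJ α)) (even_iff_two_dvd.2 hd)
  obtain ⟨t, h1, ht, h2, -⟩ := C.S.exists_swap_normalizer h hP
  exact C.S.not_le_cent_swap hd h hP ht h2 h1 (C.le_cent_of_fix3 hp2 hP.isPGroup h3 ht h1)

theorem sylow_stab {p : ℕ} [Fact p.Prime] {α β : Ω} (hd : p ∣ nJ G α) (h : α ≠ β)
    {P : Subgroup G} (hP : IsSylowIn p P (st2 G α β)) : IsSylowIn p P (stabilizer G α) := by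
  have := sylow_of_not_fix3 (N := ⊤) h.symm (by rwa [top_inf_eq]) (C.not_fix3_sylow hd h hP)
  rwa [top_inf_eq] at this

theorem exists_second {p : ℕ} [Fact p.Prime] {α : Ω} (hd : p ∣ nJ G α) {B : Subgroup G}
    (hB : IsPGroup p B) (h : B ≤ stabilizer G α) : ∃ β, β ≠ α ∧ B ≤ stabilizer G β := by
  obtain ⟨β, hβ⟩ := C.S.exists_ne α
  obtain ⟨P, hP⟩ := IsSylowIn.exists_in (p := p) (st2 G α β)
  obtain ⟨x, hx, h1⟩ := (C.sylow_stab hd hβ.symm hP).exists_conj_le hB h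
  refine ⟨x⁻¹ • β, smul_ne_of_fix (inv_mem hx : x⁻¹ ∈ stabilizer G α) hβ, ?_⟩
  have := map_conj_le_stab (g := x⁻¹) (h1.trans (hP.le.trans inf_le_right))
  rwa [map_conj_inv_map_conj] at this

theorem two_trans {α β β' : Ω} (h : β ≠ α) (h' : β' ≠ α) : ∃ g : G, g • α = α ∧ g • β = β' := by
  obtain ⟨p, hp, -, hd⟩ := C.S.exists_prime C.hr α
  have : Fact p.Prime := ⟨hp⟩
  obtain ⟨P, hP⟩ := IsSylowIn.exists_in (p := p) (st2 G α β)
  obtain ⟨P', hP'⟩ := IsSylowIn.exists_in (p := p) (st2 G α β')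
  obtain ⟨g, -, hg⟩ := exists_smul_of_not_fix3 (N := ⊤) h h' (by rwa [top_inf_eq])
    (C.not_fix3_sylow hd h.symm hP) (by rwa [top_inf_eq]) (C.not_fix3_sylow hd h'.symm hP')
  exact ⟨g, hg⟩

theorem card_st2_eq {α β γ δ : Ω} (h : α ≠ β) (h' : γ ≠ δ) :
    Nat.card (st2 G α β) = Nat.card (st2 G γ δ) := by
  obtain ⟨g, rfl⟩ := C.S.trans α γ
  obtain ⟨x, h1, h2⟩ := C.two_trans (α := g • α) (β := g • β)
    (fun e => h (smul_left_cancel g e).symm) h'.symm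
  rw [← h2, ← h1, st2_smul, card_map_conj, st2_smul, card_map_conj]

theorem card_V_eq {α β : Ω} {w v : G} (hw : IsInv w) (hv : IsInv v) (h : α ≠ w • α)
    (h' : β ≠ v • β) : Nat.card ↥(st2 G α (w • α) ⊓ centralizer {w}) =
      Nat.card ↥(st2 G β (v • β) ⊓ centralizer {v}) := by
  have h1 := SE.card_inf_mul_relIndex (centralizer {w}) (st2 G α (w • α))
  have h2 := SE.card_inf_mul_relIndex (centralizer {v}) (st2 G β (v • β))
  rw [C.S.relIndex_cent_swap h hw rfl] at h1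
  rw [C.S.relIndex_cent_swap h' hv rfl, C.S.nJ_eq β α, C.card_st2_eq h' h, ← h1] at h2
  exact (Nat.eq_of_mul_eq_mul_right (Nat.pos_of_ne_zero (C.S.nJ_ne_zero α)) h2).symm

theorem exists_inv_cent_of_max3 {p : ℕ} [Fact p.Prime] (hp2 : p ≠ 2) {Y : Subgroup G}
    (hY : Max3 Ω p Y) {δ : Ω} (hd : p ∣ nJ G δ) (h : Y ≤ stabilizer G δ) :
    ∃ u, IsInv u ∧ u • δ = δ ∧ Y ≤ centralizer {u} := by
  obtain ⟨w, hw, h1, ε, h2, h3⟩ := C.exists_inv_cent_max3 hp2 hY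
  by_cases e : ε = δ
  · exact ⟨w, hw, e ▸ h3, h1⟩
  obtain ⟨η, a, b, h4⟩ := hY.fix3.exists_third δ ε
  have hty : ∀ ω : Ω, η ≠ ω → Y ≤ stabilizer G ω → Ty2 p Y η ω := fun ω a b =>
    (hY.sylow_or h4 b).resolve_left fun hs =>
      C.not_fix3_sylow (C.S.nJ_eq δ η ▸ hd) a hs hY.fix3
  obtain ⟨n, hn, -, rfl⟩ := (hty ε b h2).exists_smul (hty δ a h) b.symm a.symm
  exact ⟨_, hw.conj n, conj_smul_eq h3, le_cent_conj hn h1⟩

/-- a `p`-subgroup with at least three fixed points centralizes an involution at each of them -/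
theorem exists_inv_cent {p : ℕ} [Fact p.Prime] (hp2 : p ≠ 2) {X : Subgroup G}
    (hX : IsPGroup p X) (h3 : Fix3 Ω X) {δ : Ω} (h : X ≤ stabilizer G δ) :
    ∃ u, IsInv u ∧ u • δ = δ ∧ X ≤ centralizer {u} := by
  by_cases hd : p ∣ nJ G δ
  swap
  · exact C.S.exists_inv_cent_of_not_dvd hd hX h
  obtain ⟨Y, hXY, hY⟩ := exists_max3 hX h3
  obtain ⟨w, hw, h1, ε, h2, h4⟩ := C.exists_inv_cent_max3 hp2 hY
  by_cases e : δ = ε
  · exact ⟨w, hw, e ▸ h4, hXY.trans h1⟩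
  have hwX : w ∈ normalizer (X : Set G) :=
    centralizer_le_normalizer _ (mem_cent_of_le (hXY.trans h1))
  have hne : δ ≠ w • δ := (C.S.smul_ne hw h4 e).symm
  obtain ⟨P, hXP, hP⟩ := IsSylowIn.exists_ge hX
    (le_inf (le_inf h (le_stab_smul hwX h)) (hXY.trans h1) :
      X ≤ st2 G δ (w • δ) ⊓ centralizer {w})
  have hPδ : P ≤ stabilizer G δ := hP.le.trans (inf_le_left.trans inf_le_left)
  obtain ⟨Y', hPY, hY'⟩ := exists_max3 (Ω := Ω) hP.isPGroup ⟨δ, w • δ, ε, hne, e,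
    smul_ne_of_fix h4 e, hPδ, hP.le.trans (inf_le_left.trans inf_le_right),
    hP.le.trans (inf_le_right.trans (C.S.cent_le hw h4))⟩
  obtain ⟨w', hw', h5, ε', -, h6⟩ := C.exists_inv_cent_max3 hp2 hY'
  obtain ⟨η, h7, -, h8⟩ := hY'.fix3.exists_third ε' ε'
  obtain ⟨P', hP1, hP'⟩ := IsSylowIn.exists_ge hY'.isPGroup
    (le_inf (le_inf h8 (le_stab_smul (centralizer_le_normalizer _ (mem_cent_of_le h5)) h8)) h5 :
      Y' ≤ st2 G η (w' • η) ⊓ centralizer {w'})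
  have h9 : P = Y' := eq_of_le_of_card_le hPY (by
    refine (card_le_of_le hP1).trans (le_of_eq ?_)
    rw [hP.card_eq_ordProj, hP'.card_eq_ordProj,
      C.card_V_eq hw hw' hne (C.S.smul_ne hw' h6 h7).symm])
  subst h9
  obtain ⟨u, hu, a, b⟩ := C.exists_inv_cent_of_max3 hp2 hY' hd hPδ
  exact ⟨u, hu, a, hXP.trans b⟩

theorem cent_trans {p : ℕ} [Fact p.Prime] (hp2 : p ≠ 2) {X : Subgroup G}
    (hX : IsPGroup p X) (h3 : Fix3 Ω X) {α β : Ω} (h : α ≠ β) (h1 : X ≤ stabilizer G α)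
    (h2 : X ≤ stabilizer G β) : ∃ c ∈ centralizer (X : Set G), c • α = β := by
  obtain ⟨u, hu, a, b⟩ := C.exists_inv_cent hp2 hX h3 h1
  obtain ⟨v, hv, c, d⟩ := C.exists_inv_cent hp2 hX h3 h2
  obtain ⟨t, ht, -, -, e, -⟩ := C.S.exists_swap_mem hu hv a c h (mem_cent_of_le b) (mem_cent_of_le d)
  exact ⟨t, ht, e⟩

end Cx

end CfsgLib.SEG
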