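import Cfsg.Agent.Lib.SEG.Mix
import Cfsg.Agent.Lib.Alperin
import Cfsg.Agent.Lib.FusionControl
import Cfsg.Agent.Lib.FrobZGroup

/-! Project SEG: transfer in the group generated by the involutions of a point stabilizer. -/

set_option autoImplicit false

namespace CfsgLib.SEG

open Subgroup MulAction Cfsg CfsgLib.Cop CfsgLib.H1 CfsgLib.SE
open scoped commutatorElement
open GW (Inverts)

variable {G Ω : Type*} [Group G] [MulAction G Ω]

theorem focal_le [Finite G] {p : ℕ} [Fact p.Prime] {J D P : Subgroup G} (hP : IsSylowIn p P J)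
    (hPD : P ≤ D) (h : ∀ A ≤ P, (A = P ∨ ¬ IsCyclic A) → ∀ g ∈ J, g ∈ normalizer (A : Set G) →
      ∃ d ∈ D, ∀ x ∈ A, g * x * g⁻¹ = d * x * d⁻¹) : ⁅J, J⁆ ⊓ P ≤ ⁅D, D⁆ := by
  obtain ⟨R, rfl⟩ := hP.exists_sylow_map
  have key := Alperin.alperin_induction R
    (fun A g => ∃ d ∈ D, ∀ x ∈ A, ((g * x * g⁻¹ : J) : G) = d * x * d⁻¹)
    (fun A B g a ⟨d, hd, e⟩ => ⟨d, hd, fun x hx => e x (a hx)⟩)
    (fun A g k ⟨d, hd, e⟩ ⟨d', hd', e'⟩ => ⟨d' * d, mul_mem hd' hd, fun x hx => by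
      have := e' _ (conj_mem_map_conj hx)
      rw [e x hx] at this
      rw [show k * g * x * (k * g)⁻¹ = k * (g * x * g⁻¹) * k⁻¹ by group, this]; group⟩)
    (fun y hy => by
      obtain ⟨d, hd, e⟩ := h _ le_rfl (Or.inl rfl) y y.2 (le_normalizer_map _ (mem_map_of_mem _ hy))
      exact ⟨d, hd, fun x hx => e x (mem_map_of_mem _ hx)⟩)
    (fun Q _ hT y hy hyn => by
      by_cases hc : IsCyclic ↥((R : Subgroup J) ⊓ (Q : Subgroup J))
      · obtain ⟨n, hn, h1⟩ := hT.1.exists_conj_le (Q.isPGroup'.to_le (zpowers_le_of_mem hy))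
          (zpowers_le_of_mem hyn)
        refine ⟨_, hPD (mem_map_of_mem _ (h1 (conj_mem_map_conj (mem_zpowers y))).1),
          fun x hx => ?_⟩
        have h2 := Frob.commutator_mem_centralizer_of_isCyclic hn hyn _
          (conj_mem_of_mem_normalizer hyn hx)
        have h3 : y * x * y⁻¹ = n * y * n⁻¹ * x * (n * y * n⁻¹)⁻¹ := by
          rw [commutatorElement_def] at h2
          calc y * x * y⁻¹ = y * x * y⁻¹ * (n * y * n⁻¹ * y⁻¹) * (n * y * n⁻¹ * y⁻¹)⁻¹ := by group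
            _ = _ := by rw [h2]; group
        rw [h3]; rfl
      · obtain ⟨d, hd, e⟩ := h _ (map_mono inf_le_left) (Or.inr fun e => hc
          (isCyclic_of_surjective _ (equivMapOfInjective _ _ J.subtype_injective).symm.surjective))
          y y.2 (le_normalizer_map _ (mem_map_of_mem _ hyn))
        exact ⟨d, hd, fun x hx => e x (mem_map_of_mem _ hx)⟩)
  refine Fusion.commutator_inf_le_of_isSylowIn hP ?_
  rintro _ ⟨x, hx, rfl⟩ g hg h1
  obtain ⟨d, hd, e⟩ := key (zpowers x) ⟨g, hg⟩ (zpowers_le_of_mem hx) (by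
    rw [MonoidHom.map_zpowers]
    obtain ⟨y, hy, e⟩ := h1
    obtain rfl : y = (⟨g, hg⟩ * x * ⟨g, hg⟩⁻¹ : J) := Subtype.ext e
    exact zpowers_le_of_mem hy)
  have h2 : g * x * g⁻¹ = d * x * d⁻¹ := e x (mem_zpowers x)
  change g * x * g⁻¹ * (x : G)⁻¹ ∈ _
  rw [h2]
  exact commutator_mem_commutator hd (hPD (mem_map_of_mem _ hx))

theorem sq_mem_comm_Jg {α : Ω} {x : G} (hx : x ∈ Jg G α) : x * x ∈ ⁅Jg G α, Jg G α⁆ := by
  induction hx using closure_induction with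
  | mem x hx => rw [hx.1.1]; exact one_mem _
  | one => simp
  | mul x y hx hy e1 e2 =>
    have := mul_mem (mul_mem e1 (commutator_mem_commutator (inv_mem hx) hy)) e2
    convert this using 1
    simp only [commutatorElement_def]; group
  | inv x _ e => rw [← mul_inv_rev]; exact inv_mem e

/-- some nontrivial element of `A` has a centralizer of `2`-rank at least two -/
def Gd (A : Subgroup G) : Prop := ∃ e ∈ A, e ≠ 1 ∧ Rk2 (centralizer (zpowers e : Set G))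

theorem Zg_anti {X Y : Subgroup G} (h : X ≤ Y) (α : Ω) : Zg Y α ≤ Zg X α :=
  closure_mono fun _ hu => ⟨hu.1, hu.2.1, centralizer_le h hu.2.2⟩

namespace Cx

variable [Finite G] (C : Cx G Ω) {α β : Ω} (h : α ≠ β)
include C h

theorem exists_B : ∃ (ℓ : ℕ) (B : Subgroup G), ℓ.Prime ∧ B ≠ ⊥ ∧ IsPGroup ℓ B ∧ B ≤ st2 G α β ∧
    st2 G α β ≤ normalizer (B : Set G) ∧ ∀ b ∈ B, Fp α b := by
  obtain ⟨ℓ, hl, h1⟩ := FT.exists_pCore_ne_bot' (FT.feit_thompson (C.S.odd_st2 h))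
    fun e => C.D1_ne_bot h (eq_bot_iff.2 (inf_le_right.trans e.le))
  rw [← pCoreOf_eq_piCoreOf] at h1
  obtain ⟨t, ht, h2, h3⟩ := C.S.exists_swap h
  have h4 : ∀ g ∈ normalizer (st2 G α β : Set G), g ∈ normalizer ((pCoreOf ℓ (st2 G α β) ⊓
      centralizer (pCoreOf ℓ (st2 G α β) : Set G) : Subgroup G) : Set G) := fun g hg =>
    norm_inf (normalizer_le_normalizer_pCoreOf _ hg)
      (normalizer_le_normalizer_centralizer _ (normalizer_le_normalizer_pCoreOf _ hg))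
  have h5 : pCoreOf ℓ (st2 G α β) ⊓ centralizer (pCoreOf ℓ (st2 G α β) : Set G) ≤ st2 G α β :=
    inf_le_left.trans (pCoreOf_le _)
  have h6 : IsMulCommutative ↥(pCoreOf ℓ (st2 G α β) ⊓
      centralizer (pCoreOf ℓ (st2 G α β) : Set G)) :=
    H5.isMulCommutative_iff'.2 fun x hx y hy => hy.2 x hx.1
  refine ⟨ℓ, _, hl.out, H5.centerOf_ne_bot (pCoreOf_isPGroup _) h1,
    (pCoreOf_isPGroup _).to_le inf_le_left, h5, fun g hg => h4 g (le_normalizer hg),
    fun b hb => fp_of_inverts C.S h ht h2 (h5 hb) (C.inverts_of_comm h ht h2 h6 h5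
      (fun g hg => h4 g (le_normalizer hg)) (h4 t (mem_normalizer_st2 h2 h3)) b hb)⟩

variable {p : ℕ} [Fact p.Prime]

theorem gd_of_not_cyclic {A : Subgroup G} (hA : IsPGroup p A) (hAD : A ≤ st2 G α β)
    (h3 : Fix3 Ω A) (hc : ¬ IsCyclic A) : Gd A := by
  have hp2 : p ≠ 2 := by
    rintro rfl
    refine hc ?_
    rw [H5.eq_bot_of_isPGroup_of_coprime hA
      (Nat.coprime_two_right.2 (odd_of_le (C.S.odd_st2 h) hAD))]
    infer_instance
  obtain ⟨ℓ, B, hl, h1, h2, h4, h5, h6⟩ := C.exists_B h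
  have : Fact ℓ.Prime := ⟨hl⟩
  obtain ⟨S, hS, -, hE, hS2⟩ := FT.ex_odd_normal_p2Elem hp2 hA hc
  have hSc : ¬ IsCyclic S := PGrp.not_isCyclic_of_isElementaryAbelian hE (by
    rw [hS2, pow_two]; exact lt_mul_self (Fact.out : p.Prime).one_lt)
  obtain ⟨e, he, he1, h7⟩ : ∃ e ∈ S, e ≠ 1 ∧ B ⊓ centralizer {e} ≠ ⊥ := by
    by_contra h7
    push Not at h7
    exact hSc (FT.regular_abelian_cyclic hE.1 h1 ((hS.trans hAD).trans h5) h7)
  obtain ⟨⟨b, hb⟩, hb1⟩ := ne_bot_iff_exists_ne_one.1 h7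
  have h8 := zpowers_le_of_mem (hS he)
  exact ⟨e, hS he, he1, C.rk2_of_fp hp2 (hA.to_le h8) (h3.mono h8)
    (h8.trans (hAD.trans inf_le_left)) (by rw [centralizer_zpowers]; exact hb.2) (h4 hb.1).1
    (fun e => hb1 (Subtype.ext e)) (h6 b hb.1)⟩

theorem norm_dec (hp2 : p ≠ 2) {A : Subgroup G} (hA : IsPGroup p A) (hAD : A ≤ st2 G α β)
    (h1 : Fix3 Ω A → Gd A) {g : G} (hg : g • α = α) (hn : g ∈ normalizer (A : Set G)) :
    ∃ z ∈ Zg A α, (z * g) • β = β := by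
  have h2 := hAD.trans inf_le_left
  have h3 := hAD.trans inf_le_right
  have h4 := le_stab_smul hn h3
  have h5 := smul_ne_of_fix hg h.symm
  by_cases e0 : g • β = β
  · exact ⟨1, one_mem _, by rwa [one_mul]⟩
  have h6 : Fix3 Ω A := ⟨α, β, g • β, h, h5.symm, Ne.symm e0, h2, h3, h4⟩
  obtain ⟨e, he, he1, h7⟩ := h1 h6
  have h8 := zpowers_le_of_mem he
  obtain ⟨s, hs, h9, h10⟩ := C.tr_of_rk2 hp2 (hA.to_le h8) (h6.mono h8) (h8.trans h2)
    (by simpa using he1) h7 h5 h.symm e0 (h8.trans h4) (h8.trans h3)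
  refine ⟨s, mem_Zg_of hs h9 fun x hx => ?_, by rwa [mul_smul]⟩
  refine mul_inv_eq_iff_eq_mul.1 (C.inv_eq (hs.conj x) hs ?_ h9 h5 ?_)
  · have := conj_smul_eq (g := x) h9
    rwa [show x • α = α from h2 hx] at this
  · rw [mul_smul, mul_smul, show x⁻¹ • g • β = g • β from inv_mem (h4 hx), h10]
    exact h3 hx

theorem sylow_Jg (hp2 : p ≠ 2) {P : Subgroup G} (hP : IsSylowIn p P (Jg G α ⊓ st2 G α β))
    (h1 : Fix3 Ω P → Gd P) : IsSylowIn p P (Jg G α) := by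
  by_cases h3 : Fix3 Ω P
  swap
  · have := sylow_of_not_fix3 h.symm hP h3
    rwa [inf_eq_left.2 (Jg_le α)] at this
  have hPD := hP.le.trans inf_le_right
  obtain ⟨e, he, he1, h7⟩ := h1 h3
  have h8 := zpowers_le_of_mem he
  obtain ⟨k, hk⟩ := ((C.isPGroup_Zg hp2 (hP.isPGroup.to_le h8) (h3.mono h8)
    (h8.trans (hPD.trans inf_le_left)) (by simpa using he1) h7).to_le
    (Zg_anti h8 α)).exists_card_eq
  refine sylow_of_normalizer ?_
  set N := Jg G α ⊓ normalizer (P : Set G)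
  have h2 : P ≤ N ⊓ st2 G α β := le_inf (le_inf (hP.le.trans inf_le_left) le_normalizer) hPD
  have h4 := hP.mono h2 (inf_le_inf_right _ inf_le_left)
  have h5 : N ⊓ st2 G α β ≤ normalizer (Zg P α : Set G) :=
    (inf_le_left.trans (inf_le_inf_right _ (Jg_le α))).trans (le_normalizer_Zg P α)
  have h6 : Zg P α ≤ N := le_inf (Zg_le_Jg P α)
    ((Zg_le P α).trans (inf_le_right.trans (centralizer_le_normalizer _)))
  have h9 : N ⊓ st2 G α β ⊔ Zg P α = N := le_antisymm (sup_le inf_le_left h6) fun g hg => by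
    obtain ⟨z, hz, e⟩ := C.norm_dec h hp2 hP.isPGroup hPD (fun _ => ⟨e, he, he1, h7⟩)
      (Jg_le α hg.1) hg.2
    have h10 := N.mul_mem (h6 hz) hg
    simpa using mul_mem (mem_sup_right (S := N ⊓ st2 G α β) (inv_mem hz))
      (mem_sup_left (show z * g ∈ N ⊓ st2 G α β from ⟨h10, Jg_le α h10.1, e⟩))
  refine ⟨h2.trans inf_le_left, hP.isPGroup, ?_⟩
  rw [← relIndex_mul_relIndex P _ N h2 inf_le_left, (Fact.out : p.Prime).dvd_mul]
  refine fun e => e.elim h4.not_dvd fun e => hp2 ?_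
  have h10 := card_sup_dvd_mul h5
  rw [h9, ← card_mul_relIndex (inf_le_left : N ⊓ st2 G α β ≤ N), hk] at h10
  exact (Nat.prime_dvd_prime_iff_eq Fact.out Nat.prime_two).1 ((Fact.out : p.Prime).dvd_of_dvd_pow
    (e.trans (Nat.dvd_of_mul_dvd_mul_left Nat.card_pos h10)))

theorem le_comm_of_gd {P : Subgroup G} (hP : IsSylowIn p P (Jg G α ⊓ st2 G α β))
    (h1 : Fix3 Ω P → Gd P) : P ≤ ⁅Jg G α ⊓ st2 G α β, Jg G α ⊓ st2 G α β⁆ := by
  have hPD := hP.le.trans inf_le_right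
  have ho := odd_of_le (C.S.odd_st2 h) hPD
  by_cases hp2 : p = 2
  · subst hp2
    rw [H5.eq_bot_of_isPGroup_of_coprime hP.isPGroup (Nat.coprime_two_right.2 ho)]
    exact bot_le
  refine le_trans (le_inf (fun x hx => mem_of_sq_mem (odd_orderOf_of_mem ho hx)
    (sq_mem_comm_Jg (hP.le hx).1)) le_rfl) (focal_le (C.sylow_Jg h hp2 hP h1) hP.le
      fun A hA hc g hg hn => ?_)
  obtain ⟨z, hz, e⟩ := C.norm_dec h hp2 (hP.isPGroup.to_le hA) (hA.trans hPD) (fun h3 => by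
    rcases hc with rfl | hc
    · exact h1 h3
    · exact C.gd_of_not_cyclic h (hP.isPGroup.to_le hA) (hA.trans hPD) h3 hc) (Jg_le α hg) hn
  have h2 := (Jg G α).mul_mem (Zg_le_Jg A α hz) hg
  refine ⟨z * g, ⟨h2, Jg_le α h2, e⟩, fun x hx => ?_⟩
  have h3 := (Zg_le A α hz).2 _ (conj_mem_of_mem_normalizer hn hx)
  calc g * x * g⁻¹ = g * x * g⁻¹ * z * z⁻¹ := by group
    _ = _ := by rw [h3]; group

theorem tr {P : Subgroup G} (hP : IsSylowIn p P (Jg G α ⊓ st2 G α β))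
    (h1 : ¬ P ≤ ⁅Jg G α ⊓ st2 G α β, Jg G α ⊓ st2 G α β⁆) :
    IsCyclic P ∧ Fix3 Ω P ∧ ¬ Gd P := by
  have h2 : ¬ (Fix3 Ω P → Gd P) := fun e => h1 (C.le_comm_of_gd h hP e)
  push Not at h2
  refine ⟨?_, h2⟩
  by_contra h3
  exact h2.2 (C.gd_of_not_cyclic h hP.isPGroup (hP.le.trans inf_le_right) h2.1 h3)

end Cx

end CfsgLib.SEG
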